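import Groth.Agent.Lib.LamFin24.Equiv
import Groth.Agent.Lib.CurveFin32.Devissage
import Groth.Agent.Lib.EtStalk.FiniteBC
import Groth.Agent.Lib.EtStalk.IntegralUniv

/-!
# Devissage along finite covering families
-/

set_option autoImplicit false
set_option linter.style.haveILetI false
set_option linter.unusedSectionVars false
set_option backward.isDefEq.respectTransparency false
set_option backward.isDefEq.respectTransparency.types false

universe u

open CategoryTheory CategoryTheory.Limits AlgebraicGeometry Opposite CategoryTheory.Abelian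

attribute [local instance] Abelian.hasFiniteBiproducts

noncomputable section

namespace Groth.Agent.LamFin24

variable {Λ : Type} [CommRing Λ] {X Y X' Y' : Scheme.{u}}

theorem comp_four {C : Type*} [Category C] {A A' B B' D D' E E' F F' : C} (x₀ : A ⟶ A') {x₁ : B ⟶ B'}
    {x₂ : D ⟶ D'} {x₃ : E ⟶ E'} {x₄ : F ⟶ F'} {p₁ : A ⟶ B} {p₂ : B ⟶ D} {p₃ : D ⟶ E} {p₄ : E ⟶ F}
    {q₁ : A' ⟶ B'} {q₂ : B' ⟶ D'} {q₃ : D' ⟶ E'} {q₄ : E' ⟶ F'} (h₁ : x₀ ≫ q₁ = p₁ ≫ x₁)
    (h₂ : x₁ ≫ q₂ = p₂ ≫ x₂) (h₃ : x₂ ≫ q₃ = p₃ ≫ x₃) (h₄ : x₃ ≫ q₄ = p₄ ≫ x₄) :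
    x₀ ≫ q₁ ≫ q₂ ≫ q₃ ≫ q₄ = (p₁ ≫ p₂ ≫ p₃ ≫ p₄) ≫ x₄ := by
  rw [reassoc_of% h₁, reassoc_of% h₂, reassoc_of% h₃, h₄]
  simp only [Category.assoc]

theorem baseChange0_natural (f : X ⟶ Y) (g : Y' ⟶ Y) (f' : X' ⟶ Y') (g' : X' ⟶ X) (w : g' ≫ f = f' ≫ g)
    {F F' : EtCoh.Ab X} (a : F ⟶ F') :
    (EtCoh.pull g).map ((EtCoh.push f).map a) ≫ EtCoh.baseChange0 f g f' g' w F' =
      EtCoh.baseChange0 f g f' g' w F ≫ (EtCoh.push f').map ((EtCoh.pull g').map a) := by
  refine ((EtCoh.pullPushAdj g).homEquiv _ _).injective ?_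
  rw [Adjunction.homEquiv_naturality_left, Adjunction.homEquiv_naturality_right, EtCoh.baseChange0,
    EtCoh.baseChange0, Equiv.apply_symm_apply, Equiv.apply_symm_apply]
  refine comp_four ((EtCoh.push f).map a) ?_ ((EtCoh.pushComp f g').hom.naturality ((EtCoh.pull g').map a))
    ((EtCoh.pushCongr w).hom.naturality ((EtCoh.pull g').map a))
    ((EtCoh.pushComp g f').inv.naturality ((EtCoh.pull g').map a))
  refine ((EtCoh.push f).map_comp _ _).symm.trans ((congrArg (EtCoh.push f).map ?_).trans ((EtCoh.push f).map_comp _ _))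
  exact (EtCoh.pullPushAdj g').unit.naturality a

variable [IsNoetherianRing Λ]

theorem finite_H_of_pullId (L : EtLam.Sheaf Λ X) (q : ℕ)
    (h : Module.Finite Λ (EtCoh.H X (EtLam.pullback (𝟙 X) L).carrier q)) :
    Module.Finite Λ (EtCoh.H X L.carrier q) := by
  haveI : IsIso ((EtCoh.pullPushAdj (𝟙 X)).unit.app L.carrier) :=
    EtStalk.isIso_unit_integral (𝟙 X) L.carrier fun x _ => ⟨x, rfl⟩
  have hl : IsLin L (pushL (𝟙 X) (EtLam.pullback (𝟙 X) L)) ((EtCoh.pullPushAdj (𝟙 X)).unit.app L.carrier) := fun r =>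
    (EtCoh.pullPushAdj (𝟙 X)).unit.naturality (actM L r)
  exact finite_of_iso _ hl.inv q (finite_H_pushL (𝟙 X) _ q h)

/-- Sheaves with finite cohomology on every finite scheme over the members of a family. -/
def Good {n : ℕ} (W : Fin n → Scheme.{u}) (g : ∀ i, W i ⟶ X) (L : EtLam.Sheaf Λ X) : Prop :=
  ∀ (i : Fin n) (W' : Scheme.{u}) (h : W' ⟶ W i), IsFinite h → ∀ p : ℕ,
    Module.Finite Λ (EtCoh.H W' (EtLam.pullback h (EtLam.pullback (g i) L)).carrier p)

/-- Finiteness from finiteness on a finite covering family and all schemes finite over it. -/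
theorem finite_H_of_cover {n : ℕ} (W : Fin n → Scheme.{u}) (g : ∀ i, W i ⟶ X) [∀ i, IsFinite (g i)]
    (hcov : ∀ x : X, ∃ i, x ∈ Set.range (g i)) :
    ∀ (q : ℕ) (L : EtLam.Sheaf Λ X), Good W g L → Module.Finite Λ (EtCoh.H X L.carrier q) := by
  intro q
  induction q using Nat.strong_induction_on with
  | _ q ih =>
    intro L hL
    let G := sumL fun j => pushL (g j) (EtLam.pullback (g j) L)
    let v : L.carrier ⟶ G.carrier := biproduct.lift fun j => (EtCoh.pullPushAdj (g j)).unit.app L.carrier
    have hv : IsLin L G v := isLin_lift _ _ fun j r => (EtCoh.pullPushAdj (g j)).unit.naturality (actM L r)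
    haveI : Mono v := CurveFin32.mono_lift_units W g hcov L.carrier
    refine (monoSeq v hv).finite_left q (finite_H_sumL _ q fun j => finite_H_pushL (g j) _ q
      (finite_H_of_pullId _ q (hL j (W j) (𝟙 _) inferInstance q))) fun p hp => ih p (by omega) _ ?_
    intro i W' h hh p'
    haveI := hh
    haveI : PreservesFiniteLimits (EtCoh.pull (g i)) := EtStalk.preservesFiniteLimits_pull (g i)
    let F := EtCoh.pull (g i) ⋙ EtCoh.pull h
    -- the middle term
    have hG : Module.Finite Λ (EtCoh.H W' (EtLam.pullback h (EtLam.pullback (g i) G)).carrier p') := by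
      let G' := fun j => EtLam.pullback h (EtLam.pullback (g i) (pushL (g j) (EtLam.pullback (g j) L)))
      let T : (EtLam.pullback h (EtLam.pullback (g i) G)).carrier ⟶ (sumL G').carrier :=
        biproduct.lift fun j => F.map (biproduct.π (fun j => (pushL (g j) (EtLam.pullback (g j) L)).carrier) j)
      have hT : IsLin (EtLam.pullback h (EtLam.pullback (g i) G)) (sumL G') T := isLin_lift _ _ fun j r => by
        show F.map (actM G r) ≫ F.map _ = F.map _ ≫ F.map (actM (pushL (g j) (EtLam.pullback (g j) L)) r)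
        rw [← Functor.map_comp, ← Functor.map_comp, isLin_sumπ _ j r]
      haveI : F.Additive := inferInstance
      haveI : IsIso T := by
        have e : T = (F.mapBiproduct fun j => (pushL (g j) (EtLam.pullback (g j) L)).carrier).hom :=
          (Functor.mapBiproduct_hom _ _).symm
        rw [e]
        infer_instance
      refine finite_of_iso (inv T) hT.inv p' (finite_H_sumL _ p' fun j => ?_)
      let a : W' ⟶ X := h ≫ g i
      let P := EtLam.pullback (g j) L
      let s := pullback.fst (g j) a
      let t := pullback.snd (g j) a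
      haveI : IsFinite s := MorphismProperty.pullback_fst _ _ (inferInstanceAs (IsFinite (h ≫ g i)) : IsFinite a)
      haveI : IsFinite t := MorphismProperty.pullback_snd _ _ (inferInstance : IsFinite (g j))
      have hsq : IsPullback s t (g j) a := IsPullback.of_hasPullback _ _
      haveI : IsIso (EtCoh.baseChange0 (g j) a t s hsq.w P.carrier) :=
        EtStalk.isIso_baseChange0_finite (g j) a t s hsq P.carrier
      have hb : IsLin (EtLam.pullback a (pushL (g j) P)) (pushL t (EtLam.pullback s P))
          (EtCoh.baseChange0 (g j) a t s hsq.w P.carrier) := fun r =>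
        baseChange0_natural (g j) a t s hsq.w (actM P r)
      have h1 : Module.Finite Λ (EtCoh.H W' (EtLam.pullback a (pushL (g j) P)).carrier p') :=
        finite_of_iso (inv _) hb.inv p' (finite_H_pushL t _ p' (hL j _ s ‹IsFinite s› p'))
      exact finite_of_iso (B := G' j) ((EtCore.pullComp h (g i)).hom.app (pushL (g j) P).carrier)
        (fun r => (EtCore.pullComp h (g i)).hom.naturality (actM (pushL (g j) P) r)) p' h1
    -- the retraction
    let K := EtCoh.pull (g i)
    let r : K.obj G.carrier ⟶ K.obj L.carrier :=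
      K.map (biproduct.π (fun j => (pushL (g j) (EtLam.pullback (g j) L)).carrier) i) ≫
        (EtCoh.pullPushAdj (g i)).counit.app (K.obj L.carrier)
    have hr : K.map v ≫ r = 𝟙 _ := by
      refine (Category.assoc _ _ _).symm.trans ?_
      rw [← Functor.map_comp]
      erw [biproduct.lift_π]
      exact (EtCoh.pullPushAdj (g i)).left_triangle_components L.carrier
    let π := K.map (cokernel.π v)
    haveI : Epi π := inferInstance
    let S := (ShortComplex.mk v (cokernel.π v) (cokernel.condition v))
    have hS : (S.map K).Exact := (ShortComplex.exact_of_g_is_cokernel S (cokernelIsCokernel v)).map K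
    haveI : Epi (S.map K).g := inferInstanceAs (Epi π)
    let e : K.obj G.carrier ⟶ K.obj G.carrier := 𝟙 _ - r ≫ K.map v
    have he : K.map v ≫ e = 0 := by
      simp only [e, Preadditive.comp_sub, Category.comp_id]
      rw [← Category.assoc, hr, Category.id_comp, sub_self]
    let σ := hS.desc e he
    have hσ : π ≫ σ = e := hS.g_desc e he
    have hσπ : σ ≫ π = 𝟙 _ := by
      refine (cancel_epi π).1 ((Category.assoc _ _ _).symm.trans ((congrArg (· ≫ π) hσ).trans ?_))
      refine Eq.trans ?_ (Category.comp_id π).symm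
      simp only [e, π, Preadditive.sub_comp, Category.id_comp, Category.assoc]
      rw [← Functor.map_comp, cokernel.condition, Functor.map_zero, comp_zero, sub_zero]
    refine finite_of_retract (A := EtLam.pullback h (EtLam.pullback (g i) (cokerL v hv)))
      (B := EtLam.pullback h (EtLam.pullback (g i) G)) ((EtCoh.pull h).map σ) ((EtCoh.pull h).map π)
      (fun c => ?_) ?_ p' hG
    · show (EtCoh.pull h).map (K.map (actM G c)) ≫ (EtCoh.pull h).map π =
        (EtCoh.pull h).map π ≫ (EtCoh.pull h).map (K.map (actM (cokerL v hv) c))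
      rw [← Functor.map_comp, ← Functor.map_comp, ← Functor.map_comp, ← Functor.map_comp, isLin_cokerπ v hv c]
    · erw [← Functor.map_comp, hσπ]
      exact CategoryTheory.Functor.map_id _ _

end Groth.Agent.LamFin24
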