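import Groth.Agent.Lib.LamFin24.Data
import Groth.Agent.Lib.LamFin24.Covers
import Groth.Agent.Lib.NormSep24.ConstUnit
import Groth.Agent.S1585
import Groth.Agent.S0385
import Groth.Agent.Lib.NumPoly18.Euler
import Mathlib.RingTheory.LocalProperties.Reduced
import Groth.Agent.Lib.H12.DimZero

/-!
# Finite normal charts and the finiteness theorem
-/

set_option autoImplicit false
set_option linter.style.haveILetI false
set_option linter.unusedSectionVars false
set_option backward.isDefEq.respectTransparency false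
set_option backward.isDefEq.respectTransparency.types false

universe u

open CategoryTheory CategoryTheory.Limits AlgebraicGeometry Opposite CategoryTheory.Abelian

noncomputable section

namespace Groth.Agent.LamFin24

open Groth.Agent.EtStalk

variable {Λ : Type} [CommRing Λ] {X Y Z : Scheme.{u}}

/-- The morphism is an isomorphism on stalks outside a finite set. -/
def IsoOff {F G : EtCoh.Ab X} (φ : F ⟶ G) (T : Finset X) : Prop :=
  ∀ (Ω : Type u) [Field Ω] [IsSepClosed Ω] (ξ : Spec (CommRingCat.of Ω) ⟶ X),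
    ξ (default : Spec (CommRingCat.of Ω)) ∉ T → IsIso ((EtCoh.stalk ξ).map φ)

theorem IsoOff.pull {F G : EtCoh.Ab X} {φ : F ⟶ G} {T : Finset X} (h : IsoOff φ T) (a : Y ⟶ X) (T' : Finset Y)
    (hT : ∀ y, a y ∈ T → y ∈ T') : IsoOff ((EtCoh.pull a).map φ) T' := fun Ω _ _ ξ hξ => by
  haveI := h Ω (ξ ≫ a) (by rw [Scheme.Hom.comp_apply]; exact fun hm => hξ (hT _ hm))
  rw [show (EtCoh.stalk ξ).map ((EtCoh.pull a).map φ) =
      inv (stalkPull a ξ F) ≫ (EtCoh.stalk (ξ ≫ a)).map φ ≫ stalkPull a ξ G by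
    rw [IsIso.eq_inv_comp]; exact stalkPull_nat a ξ φ]
  infer_instance

theorem IsoOff.comp_iso {F G H : EtCoh.Ab X} {φ : F ⟶ G} {T : Finset X} (h : IsoOff φ T) (ψ : G ⟶ H) [IsIso ψ] :
    IsoOff (φ ≫ ψ) T := fun Ω _ _ ξ hξ => by
  haveI := h Ω ξ hξ
  rw [Functor.map_comp]
  infer_instance

theorem IsoOff.suppIn_ker {F G : EtCoh.Ab X} {φ : F ⟶ G} {T : Finset X} (h : IsoOff φ T) :
    EtPic3.SuppIn (kernel φ) T := fun Ω _ _ ξ hξ => by
  haveI := h Ω ξ hξ
  have hinj := (AddCommGrpCat.mono_iff_injective _).1 (inferInstance : Mono ((EtCoh.stalk ξ).map (kernel.ι φ)))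
  refine subsingleton_of_forall_eq 0 fun p => hinj ((ConcreteCategory.bijective_of_isIso ((EtCoh.stalk ξ).map φ)).1 ?_)
  rw [map_zero, map_zero, ← ConcreteCategory.comp_apply, ← Functor.map_comp, kernel.condition, Functor.map_zero]
  rfl

theorem IsoOff.suppIn_coker {F G : EtCoh.Ab X} {φ : F ⟶ G} {T : Finset X} (h : IsoOff φ T) :
    EtPic3.SuppIn (cokernel φ) T := fun Ω _ _ ξ hξ => by
  haveI := h Ω ξ hξ
  have hsur := (EtStalk.epi_iff_stalk (cokernel.π φ)).1 inferInstance Ω ξ
  refine subsingleton_of_forall_eq 0 fun p => ?_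
  obtain ⟨q, rfl⟩ := hsur p
  obtain ⟨r, rfl⟩ := (ConcreteCategory.bijective_of_isIso ((EtCoh.stalk ξ).map φ)).2 q
  rw [← ConcreteCategory.comp_apply, ← Functor.map_comp, cokernel.condition, Functor.map_zero]
  rfl

/-- The scheme-theoretic image of a reduced scheme is reduced. -/
theorem isReduced_image' {X Y : Scheme.{u}} (f : X ⟶ Y) [QuasiCompact f] [IsReduced X] : IsReduced f.image := by
  have hst : ∀ x : f.image, _root_.IsReduced (f.image.presheaf.stalk x) := by
    intro x
    obtain ⟨U, hU, hx, -⟩ := exists_isAffineOpen_mem_and_subset (U := (⊤ : Y.Opens)) (x := f.imageι x) trivial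
    have hV : IsAffineOpen (f.imageι ⁻¹ᵁ U) := hU.preimage _
    haveI : _root_.IsReduced Γ(f.image, f.imageι ⁻¹ᵁ U) :=
      isReduced_of_injective (f.toImage.app (f.imageι ⁻¹ᵁ U)).hom (f.toImage_app_injective ⟨U, hU⟩)
    letI := TopCat.Presheaf.algebra_section_stalk f.image.presheaf (⟨x, hx⟩ : f.imageι ⁻¹ᵁ U)
    haveI := hV.isLocalization_stalk ⟨x, hx⟩
    exact isReduced_localizationPreserves (hV.primeIdealOf ⟨x, hx⟩).asIdeal.primeCompl _ ‹_›
  exact isReduced_of_isReduced_stalk _

/-- A trivialisation over a nonempty open of a normal integral scheme extends to a map to a constant sheaf. -/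
theorem exists_toConst [IsIntegral Y] (hN : Pi1.IsNormalScheme Y) (L : EtLam.Sheaf Λ X) (g : Y ⟶ X) (V : Y.Opens)
    (hV : (V : Set Y).Nonempty) (M : Type) [AddCommGroup M] [Module Λ M] (h : Triv L (V.ι ≫ g) M) :
    ∃ φ : (pullL g L).carrier ⟶ (constL Λ Y M).carrier, IsLin (pullL g L) (constL Λ Y M) φ ∧
      ∀ (Ω : Type u) [Field Ω] [IsSepClosed Ω] (ξ : Spec (CommRingCat.of Ω) ⟶ Y),
        ξ (default : Spec (CommRingCat.of Ω)) ∈ V → IsIso ((EtCoh.stalk ξ).map φ) := by
  obtain ⟨ψ, hψ, hl⟩ := h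
  let i := V.ι
  haveI : IsIso ((EtCoh.pullPushAdj i).unit.app (EtCoh.const Y M)) :=
    NormSep24.isIso_unit_const_open (fun y => (hN y).2) V hV M
  haveI : IsIso ((EtCoh.pullPushAdj i).unit.app (constL Λ Y M).carrier) := ‹_›
  let θ : (pullL i (pullL g L)).carrier ⟶ (pullL i (constL Λ Y M)).carrier :=
    inv ((EtCore.pullComp i g).hom.app L.carrier) ≫ ψ ≫ inv (EtCore.pullConst i M).hom
  have hθ : IsLin (pullL i (pullL g L)) (pullL i (constL Λ Y M)) θ :=
    (isLin_pullCompHom i g L).inv.comp (hl.comp (isLin_pullConst i M).inv)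
  let φ : (pullL g L).carrier ⟶ (constL Λ Y M).carrier :=
    (EtCoh.pullPushAdj i).unit.app _ ≫ (EtCoh.push i).map θ ≫
      inv ((EtCoh.pullPushAdj i).unit.app (constL Λ Y M).carrier)
  refine ⟨φ, (isLin_unit i (pullL g L)).comp ((hθ.map_push i).comp (isLin_unit i (constL Λ Y M)).inv),
    fun Ω _ _ ξ hξ => ?_⟩
  haveI : AlgebraicGeometry.Etale i := inferInstance
  haveI : IsIso (EtCoh.pullPushAdj i).counit := EtStalk.isIso_pullPush_counit i
  have hu : ∀ G : EtCoh.Ab Y, IsIso ((EtCoh.pull i).map ((EtCoh.pullPushAdj i).unit.app G)) := fun G => by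
    have h1 : IsIso ((EtCoh.pull i).map ((EtCoh.pullPushAdj i).unit.app G) ≫
        (EtCoh.pullPushAdj i).counit.app ((EtCoh.pull i).obj G)) := by
      rw [(EtCoh.pullPushAdj i).left_triangle_components G]
      exact IsIso.id _
    exact IsIso.of_isIso_comp_right _ ((EtCoh.pullPushAdj i).counit.app ((EtCoh.pull i).obj G))
  haveI := hu
  haveI : IsIso ((EtCoh.pull i).map φ) := by
    simp only [φ, Functor.map_comp]
    infer_instance
  obtain ⟨ζ, rfl⟩ := EtStalk.exists_lift_point_open i ξ (by rw [Scheme.Opens.range_ι]; exact hξ)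
  rw [show (EtCoh.stalk (ζ ≫ i)).map φ =
      stalkPull i ζ _ ≫ (EtCoh.stalk ζ).map ((EtCoh.pull i).map φ) ≫ inv (stalkPull i ζ _) by
    rw [← Category.assoc, IsIso.eq_comp_inv, stalkPull_nat]]
  infer_instance

/-- Closed proper subsets of an integral curve consist of finitely many closed points. -/
theorem finite_closed [IsIntegral Y] [TopologicalSpace.NoetherianSpace Y] (hdim : topologicalKrullDim Y ≤ 1)
    (C : Set Y) (hC : IsClosed C) (hne : C ≠ Set.univ) : C.Finite ∧ ∀ c ∈ C, IsClosed ({c} : Set Y) := by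
  have hpt : ∀ c ∈ C, IsClosed ({c} : Set Y) := fun c hc => by
    rw [← closure_eq_iff_isClosed]
    refine Set.Subset.antisymm (fun y hy => ?_) subset_closure
    let a : TopologicalSpace.IrreducibleCloseds Y := ⟨closure {y}, isIrreducible_singleton.closure, isClosed_closure⟩
    let b : TopologicalSpace.IrreducibleCloseds Y := ⟨closure {c}, isIrreducible_singleton.closure, isClosed_closure⟩
    let t : TopologicalSpace.IrreducibleCloseds Y := ⟨Set.univ, IrreducibleSpace.isIrreducible_univ Y, isClosed_univ⟩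
    have hab : a ≤ b := closure_minimal (Set.singleton_subset_iff.2 hy) isClosed_closure
    have hbt : b ≤ t := fun _ _ => trivial
    rcases Order.krullDim_le_one_iff.1 hdim b with hmin | hmax
    · have hba : b ≤ a := hmin hab
      exact Inseparable.eq ((specializes_iff_mem_closure.2 hy).antisymm
        (specializes_iff_mem_closure.2 (hba (subset_closure rfl)))).symm
    · refine absurd ?_ hne
      exact Set.eq_univ_of_univ_subset ((show (Set.univ : Set Y) ⊆ closure {c} from hmax hbt).trans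
        (closure_minimal (Set.singleton_subset_iff.2 hc) hC))
  refine ⟨?_, hpt⟩
  obtain ⟨S, hS, hScl, hSi, rfl⟩ := TopologicalSpace.NoetherianSpace.exists_finite_set_isClosed_irreducible hC
  refine hS.sUnion fun D hD => ?_
  have hgen := (hSi D hD).isGenericPoint_genericPoint (hScl D hD)
  rw [← hgen.def, closure_eq_iff_isClosed.2 (hpt _ ⟨D, hD, hgen.mem⟩)]
  exact Set.finite_singleton _

variable [IsNoetherianRing Λ] {k : Type u} [Field k] [IsAlgClosed k]

/-- A finite chart at a generic point. -/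
theorem exists_chart (f : X ⟶ Spec (CommRingCat.of k)) [IsSeparated f] [LocallyOfFiniteType f] [QuasiCompact f]
    (hdim : topologicalKrullDim X ≤ 1) {P : ℕ → Prop} (L : EtLam.Sheaf Λ X) (hG : GenTriv P L) (η : X)
    (hη : η ∈ genericPoints X) :
    ∃ (Y : Scheme.{u}) (g : Y ⟶ X) (T : Finset Y) (M : Type) (_ : AddCommGroup M) (_ : Module Λ M)
      (_ : Module.Finite Λ M) (n : ℕ) (φ : (pullL g L).carrier ⟶ (constL Λ Y M).carrier),
      IsFinite g ∧ closure ({η} : Set X) ⊆ Set.range g ∧ (∀ y ∈ T, IsClosed ({y} : Set Y)) ∧ P n ∧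
        (∀ m : M, n • m = 0) ∧ IsLin (pullL g L) (constL Λ Y M) φ ∧ IsoOff φ T := by
  classical
  haveI : IsLocallyNoetherian X := LocallyOfFiniteType.isLocallyNoetherian f
  haveI : CompactSpace X := QuasiCompact.compactSpace_of_compactSpace f
  haveI : QuasiSeparatedSpace X := quasiSeparatedSpace_of_quasiSeparated f
  obtain ⟨U, u, hu, z, hz, hq, M, _, _, hM, n, hn, hn0, htriv⟩ := hG η hη
  haveI := hu
  haveI := hq
  obtain ⟨O, hO, hzO, -⟩ := exists_isAffineOpen_mem_and_subset (U := (⊤ : U.Opens)) (x := z) trivial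
  haveI : IsAffine (O : Scheme.{u}) := hO
  let z₀ : (O : Scheme.{u}) := ⟨z, hzO⟩
  let I := NumPoly18.ptIdeal z₀
  haveI : IsIntegral I.subscheme := (NumPoly18.isIntegral_pt _).1
  haveI : IsAffine I.subscheme := isAffine_of_isAffineHom I.subschemeι
  let a : I.subscheme ⟶ U := I.subschemeι ≫ O.ι
  let fW : I.subscheme ⟶ X := a ≫ u
  haveI : IsSeparated fW := by
    haveI : IsSeparated (fW ≫ f) := inferInstance
    exact IsSeparated.of_comp fW f
  haveI : QuasiCompact fW := inferInstance
  haveI : LocallyQuasiFinite fW := inferInstance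
  haveI : LocallyOfFiniteType fW := inferInstance
  obtain ⟨T₀, j₀, π, hj₀, hjqc, hπ, hfac⟩ := Groth.Agent.S0385.result fW
  haveI := hj₀
  haveI := hjqc
  haveI := hπ
  haveI : IsReduced j₀.image := isReduced_image' j₀
  haveI : IrreducibleSpace j₀.image := by
    rw [irreducibleSpace_def]
    convert! ((IrreducibleSpace.isIrreducible_univ I.subscheme).image _
      j₀.toImage.continuous.continuousOn).closure
    simpa using j₀.toImage.denseRange.closure_range.symm
  haveI : IsIntegral j₀.image := isIntegral_of_irreducibleSpace_of_isReduced _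
  let C := j₀.image
  let π₀ : C ⟶ X := j₀.imageι ≫ π
  haveI : IsFinite π₀ := inferInstanceAs (IsFinite (j₀.imageι ≫ π))
  letI : C.Over (Spec (CommRingCat.of k)) := ⟨π₀ ≫ f⟩
  haveI : LocallyOfFiniteType (C ↘ Spec (CommRingCat.of k)) := inferInstanceAs (LocallyOfFiniteType (π₀ ≫ f))
  haveI : IsLocallyNoetherian C := LocallyOfFiniteType.isLocallyNoetherian π₀
  haveI : CompactSpace C := QuasiCompact.compactSpace_of_compactSpace π₀
  haveI : IsNoetherian C := {}
  haveI : QuasiCompact (C.fromSpecStalk (genericPoint C)) := quasiCompact_of_compactSpace _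
  haveI : QuasiSeparated (C.fromSpecStalk (genericPoint C)) := inferInstance
  obtain ⟨hνf, hνd, -, hint, hnor⟩ := Groth.Agent.S1585.result k C
  let ν := Curv2.normalizationι C
  haveI : IsFinite ν := hνf
  haveI : IsIntegral (Curv2.normalization C) := hint
  haveI : IsDominant ν := hνd
  haveI : Surjective ν := ⟨Set.range_eq_univ.1
    (ν.isClosedMap.isClosed_range.closure_eq ▸ ν.denseRange.closure_range)⟩
  let Y := Curv2.normalization C
  let g : Y ⟶ X := ν ≫ π₀
  haveI : IsFinite g := inferInstanceAs (IsFinite (ν ≫ π₀))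
  let j := pullback.fst ν j₀.toImage
  haveI : IsOpenImmersion j := inferInstanceAs (IsOpenImmersion (pullback.fst ν j₀.toImage))
  haveI : Surjective (pullback.snd ν j₀.toImage) := MorphismProperty.pullback_snd _ _ ‹Surjective ν›
  obtain ⟨w₀, hw₀⟩ : z₀ ∈ Set.range I.subschemeι :=
    (NumPoly18.range_ptι _) ▸ subset_closure rfl
  obtain ⟨w, hw⟩ := (pullback.snd ν j₀.toImage).surjective w₀
  have hjg : j ≫ g = pullback.snd ν j₀.toImage ≫ a ≫ u := by
    show pullback.fst ν j₀.toImage ≫ ν ≫ j₀.imageι ≫ π = _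
    rw [pullback.condition_assoc, Scheme.Hom.toImage_imageι_assoc, hfac]
  have hgη : g (j w) = η := by
    rw [← Scheme.Hom.comp_apply, hjg, Scheme.Hom.comp_apply, hw]
    show (I.subschemeι ≫ O.ι ≫ u) w₀ = η
    rw [Scheme.Hom.comp_apply, hw₀, Scheme.Hom.comp_apply]
    exact hz
  let V := j.opensRange
  have hV : (V : Set Y).Nonempty := ⟨j w, w, rfl⟩
  have htV : Triv L (V.ι ≫ g) M := by
    have h1 := htriv.pull (j.isoOpensRange.inv ≫ pullback.snd ν j₀.toImage ≫ a)
    have h2 : (j.isoOpensRange.inv ≫ pullback.snd ν j₀.toImage ≫ a) ≫ u = V.ι ≫ g := by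
      simp only [Category.assoc]
      rw [← hjg, ← Category.assoc, Scheme.Hom.isoOpensRange_inv_comp]
    rwa [h2] at h1
  obtain ⟨φ, hφ, hiso⟩ := exists_toConst hnor L g V hV M htV
  haveI : CompactSpace Y := QuasiCompact.compactSpace_of_compactSpace g
  haveI : IsLocallyNoetherian Y := LocallyOfFiniteType.isLocallyNoetherian g
  haveI : IsNoetherian Y := {}
  have hdY : topologicalKrullDim Y ≤ 1 := (H12.topologicalKrullDim_le_of_eq_of_specializes g g.continuous
    fun _ _ h he => H12.eq_of_specializes_of_isIntegralHom g h he).trans hdim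
  obtain ⟨hfin, hpt⟩ := finite_closed hdY ((V : Set Y)ᶜ) V.2.isClosed_compl
    fun h => (h.symm ▸ Set.mem_univ (j w) : j w ∈ (V : Set Y)ᶜ) ⟨w, rfl⟩
  refine ⟨Y, g, hfin.toFinset, M, inferInstance, inferInstance, hM, n, φ, inferInstance, ?_,
    fun y hy => hpt y (hfin.mem_toFinset.1 hy), hn, hn0, hφ,
    fun Ω _ _ ξ hξ => hiso Ω ξ (Classical.not_not.1 fun h => hξ (hfin.mem_toFinset.2 h))⟩
  exact closure_minimal (Set.singleton_subset_iff.2 ⟨j w, hgη⟩) g.isClosedMap.isClosed_range

/-- Finiteness of cohomology. -/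
theorem finite_H (f : X ⟶ Spec (CommRingCat.of k)) [IsSeparated f] [LocallyOfFiniteType f] [QuasiCompact f]
    (hdim : topologicalKrullDim X ≤ 1) {P : ℕ → Prop} (hne : ∀ n, P n → n ≠ 0) (L : EtLam.Sheaf Λ X)
    (hG : GenTriv P L) (hpt : PtFin k L)
    (hbase : ∀ (W : Scheme.{u}) (b : W ⟶ X), IsFinite b → ∀ n d : ℕ, P n → d ∣ n → ∀ p : ℕ,
      Finite (EtCoh.H W (EtCoh.const W (ZMod d)) p)) (q : ℕ) :
    Module.Finite Λ (EtCoh.H X L.carrier q) := by
  classical
  haveI : IsLocallyNoetherian X := LocallyOfFiniteType.isLocallyNoetherian f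
  haveI : CompactSpace X := QuasiCompact.compactSpace_of_compactSpace f
  haveI : IsNoetherian X := {}
  haveI : Finite (genericPoints X) :=
    (genericPoints.finite (TopologicalSpace.NoetherianSpace.finite_irreducibleComponents)).to_subtype
  let e := Finite.equivFin (genericPoints X)
  choose Y g T M iA iM hM n φ hg hcov hT hn hn0 hφ hoff using
    fun i => exists_chart f hdim L hG (e.symm i).1 (e.symm i).2
  haveI := hg
  refine finite_H_of_cover Y g (fun x => ?_) q L ?_
  · let γ := genericPoints.ofComponent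
      (⟨irreducibleComponent x, irreducibleComponent_mem_irreducibleComponents x⟩ : irreducibleComponents X)
    refine ⟨e γ, hcov _ ?_⟩
    rw [Equiv.symm_apply_apply, (genericPoints.isGenericPoint_ofComponent _ : IsGenericPoint γ.1 _).def]
    exact mem_irreducibleComponent
  intro i W h hh p
  haveI := hh
  letI := iA i
  letI := iM i
  haveI := hM i
  let fW : W ⟶ Spec (CommRingCat.of k) := h ≫ g i ≫ f
  haveI : LocallyOfFiniteType fW := inferInstance
  haveI : CompactSpace W := QuasiCompact.compactSpace_of_compactSpace (h ≫ g i)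
  haveI : QuasiSeparatedSpace W := quasiSeparatedSpace_of_quasiSeparated fW
  let φ' : (pullL h (pullL (g i) L)).carrier ⟶ (constL Λ W (M i)).carrier :=
    (EtCoh.pull h).map (φ i) ≫ (EtCore.pullConst h (M i)).hom
  have hφ' : IsLin (pullL h (pullL (g i) L)) (constL Λ W (M i)) φ' :=
    ((hφ i).map_pull h).comp (isLin_pullConst h (M i))
  have hfinT : (h ⁻¹' (T i : Set (Y i))).Finite :=
    Set.Finite.preimage' (T i).finite_toSet fun y _ => h.finite_preimage_singleton y
  have hT' : ∀ w ∈ hfinT.toFinset, IsClosed ({w} : Set W) := fun w hw => by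
    rw [← closure_eq_iff_isClosed]
    refine Set.Subset.antisymm (fun w' hw' => ?_) subset_closure
    have hs : w ⤳ w' := specializes_iff_mem_closure.2 hw'
    have he : h w' ∈ ({h w} : Set (Y i)) :=
      (hT i (h w) (hfinT.mem_toFinset.1 hw)).closure_eq ▸ specializes_iff_mem_closure.1 (hs.map h.continuous)
    exact (H12.eq_of_specializes_of_isIntegralHom h hs he.symm).symm
  have hoff' : IsoOff φ' hfinT.toFinset :=
    ((hoff i).pull h _ fun w hw => hfinT.mem_toFinset.2 hw).comp_iso _
  have hM' := ptFin_constL (X := W) (k := k) (Λ := Λ) (M i) (hne _ (hn i)) (hn0 i)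
  refine finite_of_map φ' hφ' p ?_ (fun p' _ => ?_) ?_
  · exact finite_H_suppIn fW (kerL φ' hφ') _ hT' hoff'.suppIn_ker
      (PtFin.kerL ((hpt.pull (g i)).pull h) φ' hφ') p
  · exact finite_H_suppIn fW (cokerL φ' hφ') _ hT' hoff'.suppIn_coker (PtFin.cokerL hM' φ' hφ') p'
  · exact finite_H_constL W (M i) p (n i) (hne _ (hn i)) (hn0 i) fun d hd =>
      hbase W (h ≫ g i) inferInstance (n i) d (hn i) hd p

end Groth.Agent.LamFin24
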