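import Groth.Agent.Lib.LamFin24.Equiv
import Mathlib.GroupTheory.FiniteAbelian.Basic
import Mathlib.CategoryTheory.Limits.Types.Filtered

/-!
# Cohomology of constant sheaves of finite modules killed by an integer
-/

set_option autoImplicit false
set_option linter.style.haveILetI false
set_option linter.unusedSectionVars false
set_option backward.isDefEq.respectTransparency false
set_option backward.isDefEq.respectTransparency.types false

universe u

open CategoryTheory CategoryTheory.Limits AlgebraicGeometry Opposite CategoryTheory.Abelian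

noncomputable section

namespace Groth.Agent.LamFin24

open Groth.Agent.LocAcyc24

variable {Λ : Type} [CommRing Λ]

/-- Multiplication by a scalar on the lifted group. -/
def smulHom (M : Type) [AddCommGroup M] [Module Λ M] (r : Λ) :
    AddCommGrpCat.of (ULift.{u + 1} M) ⟶ AddCommGrpCat.of (ULift.{u + 1} M) :=
  AddCommGrpCat.ofHom (DistribSMul.toAddMonoidHom (ULift.{u + 1} M) r)

/-- The constant sheaf of modules. -/
def constL (Λ : Type) [CommRing Λ] (X : Scheme.{u}) (M : Type) [AddCommGroup M] [Module Λ M] : EtLam.Sheaf Λ X where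
  carrier := EtCoh.const X M
  act :=
    { toFun := fun r => (cs X).map (smulHom M r)
      map_one' := by
        rw [show smulHom M (1 : Λ) = 𝟙 _ from AddCommGrpCat.ext fun x => one_smul Λ x, CategoryTheory.Functor.map_id]
        rfl
      map_mul' := fun r s => by
        rw [show smulHom M (r * s) = smulHom M s ≫ smulHom M r from AddCommGrpCat.ext fun x => mul_smul r s x,
          Functor.map_comp]
        rfl
      map_zero' := by
        rw [show smulHom M (0 : Λ) = 0 from AddCommGrpCat.ext fun x => zero_smul Λ x, Functor.map_zero]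
      map_add' := fun r s => by
        rw [show smulHom M (r + s) = smulHom M r + smulHom M s from AddCommGrpCat.ext fun x => add_smul r s x,
          Functor.map_add] }

variable (X : Scheme.{u}) (M : Type) [AddCommGroup M] [Module Λ M] (q : ℕ)

/-- The map from a cyclic group picking an element killed by the order. -/
def cyc (d : ℕ) (m : Submodule.torsionBy Λ M (d : Λ)) :
    AddCommGrpCat.of (ULift.{u + 1} (ZMod d)) ⟶ AddCommGrpCat.of (ULift.{u + 1} M) :=
  AddCommGrpCat.ofHom ((AddEquiv.ulift.symm.toAddMonoidHom.comp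
    (ZMod.lift d ⟨zmultiplesHom M (m : M), by
      rw [zmultiplesHom_apply, natCast_zsmul, ← Nat.cast_smul_eq_nsmul Λ]
      exact m.2⟩)).comp AddEquiv.ulift.toAddMonoidHom)

theorem cyc_hom_ext {d : ℕ} {A : AddCommGrpCat.{u + 1}} {φ ψ : AddCommGrpCat.of (ULift.{u + 1} (ZMod d)) ⟶ A}
    (h : φ (ULift.up 1) = ψ (ULift.up 1)) : φ = ψ := by
  refine AddCommGrpCat.ext fun x => ?_
  obtain ⟨x⟩ := x
  obtain ⟨k, rfl⟩ := ZMod.intCast_surjective x
  have e : (ULift.up (k : ZMod d) : ULift.{u + 1} (ZMod d)) = k • ULift.up 1 := ULift.ext _ _ (by simp)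
  rw [e, map_zsmul, map_zsmul, h]

theorem cyc_one (d : ℕ) (m : Submodule.torsionBy Λ M (d : Λ)) : cyc M d m (ULift.up 1) = ULift.up (m : M) := by
  refine ULift.ext _ _ ?_
  show ZMod.lift d _ (1 : ZMod d) = _
  rw [← Int.cast_one, ZMod.lift_coe]
  exact one_zsmul _

theorem cyc_add (d : ℕ) (m m' : Submodule.torsionBy Λ M (d : Λ)) : cyc M d (m + m') = cyc M d m + cyc M d m' :=
  cyc_hom_ext (by
    show cyc M d (m + m') (ULift.up 1) = cyc M d m (ULift.up 1) + cyc M d m' (ULift.up 1)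
    rw [cyc_one, cyc_one, cyc_one]
    rfl)

theorem cyc_smul (d : ℕ) (r : Λ) (m : Submodule.torsionBy Λ M (d : Λ)) :
    cyc M d (r • m) = cyc M d m ≫ smulHom M r :=
  cyc_hom_ext (by
    show cyc M d (r • m) (ULift.up 1) = smulHom M r (cyc M d m (ULift.up 1))
    rw [cyc_one, cyc_one]
    rfl)

/-- The contribution of a class with cyclic coefficients. -/
def gen (d : ℕ) (c : EtCoh.H X (EtCoh.const X (ZMod d)) q) :
    Submodule.torsionBy Λ M (d : Λ) →ₗ[Λ] EtCoh.H X (constL Λ X M).carrier q where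
  toFun m := Sheaf.H.map ((cs X).map (cyc M d m)) q c
  map_add' m m' := by
    rw [cyc_add, Functor.map_add]
    exact Sheaf.H.map_add_apply _ _ _
  map_smul' r m := by
    show _ = Sheaf.H.map ((cs X).map (smulHom M r)) q (Sheaf.H.map ((cs X).map (cyc M d m)) q c)
    rw [cyc_smul, Functor.map_comp]
    exact Sheaf.H.map_comp_apply _ _ _

theorem H_map_sum {ι : Type*} [Fintype ι] {F G : EtCoh.Ab X} (a : ι → (F ⟶ G)) (x : EtCoh.H X F q) :
    Sheaf.H.map (∑ i, a i) q x = ∑ i, Sheaf.H.map (a i) q x := by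
  show x.comp (Ext.mk₀ (∑ i, a i)) (add_zero q) = _
  rw [Ext.mk₀_sum, Ext.comp_sum]
  rfl

variable [IsNoetherianRing Λ] [Module.Finite Λ M]

theorem finite_H_constL [CompactSpace X] [QuasiSeparatedSpace X] (n : ℕ) (hn : n ≠ 0) (hM : ∀ m : M, n • m = 0)
    (hfin : ∀ d : ℕ, d ∣ n → Finite (EtCoh.H X (EtCoh.const X (ZMod d)) q)) :
    Module.Finite Λ (EtCoh.H X (constL Λ X M).carrier q) := by
  classical
  let S := Σ d : n.divisors, EtCoh.H X (EtCoh.const X (ZMod d.1)) q
  haveI : ∀ d : n.divisors, Finite (EtCoh.H X (EtCoh.const X (ZMod d.1)) q) := fun d =>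
    hfin _ (Nat.dvd_of_mem_divisors d.2)
  haveI : Finite S := inferInstance
  let W : Submodule Λ (EtCoh.H X (constL Λ X M).carrier q) := ⨆ s : S, (gen X M q s.1.1 s.2).range
  suffices hW : W = ⊤ by
    refine ⟨hW ▸ Submodule.fg_iSup _ fun s => ?_⟩
    exact Module.Finite.iff_fg.1 (Module.Finite.range _)
  rw [eq_top_iff]
  intro y _
  let A : AddCommGrpCat.{u + 1} := AddCommGrpCat.of (ULift.{u + 1} M)
  let J := {N : AddSubgroup A // N.FG}
  haveI : IsDirected J (· ≤ ·) := ⟨fun a b => ⟨⟨a.1 ⊔ b.1, a.2.sup b.2⟩,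
    show a.1 ≤ a.1 ⊔ b.1 from le_sup_left, show b.1 ≤ a.1 ⊔ b.1 from le_sup_right⟩⟩
  haveI : Nonempty J := ⟨⟨⊥, ⟨∅, by simp⟩⟩⟩
  let D : J ⥤ AddCommGrpCat.{u + 1} :=
    { obj := fun N => AddCommGrpCat.of N.1
      map := fun {a b} f => AddCommGrpCat.ofHom (AddSubgroup.inclusion (show a.1 ≤ b.1 from leOfHom f)) }
  let c : Cocone D :=
    { pt := A
      ι := { app := fun N => AddCommGrpCat.ofHom N.1.subtype, naturality := fun _ _ _ => rfl } }
  have hc : IsColimit c := by
    haveI : PreservesColimitsOfShape J (forget AddCommGrpCat.{u + 1}) :=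
      PreservesFilteredColimitsOfSize.preserves_filtered_colimits J
    haveI := reflectsColimitsOfShape_of_reflectsIsomorphisms (J := J) (G := forget AddCommGrpCat.{u + 1})
    refine isColimitOfReflects (forget AddCommGrpCat.{u + 1}) ?_
    refine Types.FilteredColimit.isColimitOf _ _ (fun a => ?_) fun i j xi xj hij => ?_
    · exact ⟨⟨AddSubgroup.closure {a}, ⟨{a}, by simp⟩⟩, ⟨a, AddSubgroup.subset_closure rfl⟩, rfl⟩
    · exact ⟨⟨i.1 ⊔ j.1, i.2.sup j.2⟩, homOfLE (show i.1 ≤ _ from le_sup_left),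
        homOfLE (show j.1 ≤ _ from le_sup_right), Subtype.ext hij⟩
  haveI := EtColim.preservesColimitsOfShape_HF X q J
  haveI : (cs X).IsLeftAdjoint :=
    (constantSheafAdj X.smallEtaleTopology AddCommGrpCat.{u + 1} (EtCore.topIsTerminal X)).isLeftAdjoint
  haveI : PreservesColimitsOfShape J (cs X) := inferInstance
  obtain ⟨N, y', hy'⟩ := Concrete.isColimit_exists_rep _ (isColimitOfPreserves (cs X ⋙ EtCoh.HF X q) hc) y
  have hN : ∀ a : N.1, n • a = 0 := fun a => Subtype.ext (ULift.ext _ _ (hM (a : A).down))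
  haveI : AddGroup.FG N.1 := (AddGroup.fg_iff_addSubgroup_fg N.1).2 N.2
  haveI : Finite N.1 := AddCommGroup.finite_of_fg_torsion N.1 fun a =>
    isOfFinAddOrder_iff_nsmul_eq_zero.2 ⟨n, Nat.pos_of_ne_zero hn, hN a⟩
  obtain ⟨ι, hι, p, hp, e, ⟨φ⟩⟩ := AddCommGroup.equiv_directSum_zmod_of_finite N.1
  let π : ∀ i, D.obj N ⟶ AddCommGrpCat.of (ULift.{u + 1} (ZMod (p i ^ e i))) := fun i =>
    AddCommGrpCat.ofHom (AddEquiv.ulift.symm.toAddMonoidHom.comp
      ((DFinsupp.evalAddMonoidHom i).comp φ.toAddMonoidHom))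
  let ι' : ∀ i, AddCommGrpCat.of (ULift.{u + 1} (ZMod (p i ^ e i))) ⟶ D.obj N := fun i =>
    AddCommGrpCat.ofHom ((φ.symm.toAddMonoidHom.comp
      (DirectSum.of (fun j => ZMod (p j ^ e j)) i)).comp AddEquiv.ulift.toAddMonoidHom)
  have hsum : ∑ i, π i ≫ ι' i = 𝟙 (D.obj N) := by
    refine AddCommGrpCat.ext fun a => ?_
    refine (congrFun (congrArg DFunLike.coe
      (map_sum (AddMonoidHom.mk' (fun f : D.obj N ⟶ D.obj N => f.hom) fun _ _ => rfl) _ Finset.univ)) a).trans ?_
    rw [AddMonoidHom.finsetSum_apply]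
    show (∑ i, φ.symm (DirectSum.of (fun j => ZMod (p j ^ e j)) i ((φ a) i))) = a
    rw [← map_sum, DirectSum.sum_univ_of, φ.symm_apply_apply]
  haveI : (cs X).Additive := inferInstance
  have hy : y = ∑ i, Sheaf.H.map ((cs X).map (ι' i ≫ c.ι.app N)) q (Sheaf.H.map ((cs X).map (π i)) q y') := by
    rw [← hy']
    show Sheaf.H.map ((cs X).map (c.ι.app N)) q y' = _
    conv_lhs => rw [← Category.id_comp (c.ι.app N), ← hsum, Preadditive.sum_comp, Functor.map_sum]
    rw [H_map_sum]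
    refine Finset.sum_congr rfl fun i _ => ?_
    show Sheaf.H.map _ q y' = _
    rw [Category.assoc, Functor.map_comp]
    exact Sheaf.H.map_comp_apply _ _ _
  rw [hy]
  refine Submodule.sum_mem _ fun i _ => ?_
  have hd : p i ^ e i ∣ n := by
    let a := φ.symm (DirectSum.of (fun j => ZMod (p j ^ e j)) i 1)
    have h1 : addOrderOf a ∣ n := addOrderOf_dvd_of_nsmul_eq_zero (hN a)
    have h2 : addOrderOf a = p i ^ e i := by
      refine (addOrderOf_injective φ.symm.toAddMonoidHom φ.symm.injective _).trans ?_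
      rw [addOrderOf_injective (DirectSum.of (fun j => ZMod (p j ^ e j)) i) (DirectSum.of_injective i),
        ZMod.addOrderOf_one]
    rwa [h2] at h1
  let m₀ : M := ((ι' i ≫ c.ι.app N) (ULift.up 1)).down
  have hm₀ : m₀ ∈ Submodule.torsionBy Λ M ((p i ^ e i : ℕ) : Λ) := by
    show ((p i ^ e i : ℕ) : Λ) • m₀ = 0
    rw [Nat.cast_smul_eq_nsmul]
    have h0 : (p i ^ e i) • (ULift.up 1 : ULift.{u + 1} (ZMod (p i ^ e i))) = 0 := ULift.ext _ _ (by simp)
    have := congrArg (fun z => ((ι' i ≫ c.ι.app N) z).down) h0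
    simp only [map_nsmul, map_zero] at this
    exact this
  refine Submodule.mem_iSup_of_mem (⟨⟨p i ^ e i, Nat.mem_divisors.2 ⟨hd, hn⟩⟩,
    Sheaf.H.map ((cs X).map (π i)) q y'⟩ : S) ⟨⟨m₀, hm₀⟩, ?_⟩
  show Sheaf.H.map ((cs X).map (cyc M _ ⟨m₀, hm₀⟩)) q _ = _
  rw [show cyc M (p i ^ e i) ⟨m₀, hm₀⟩ = ι' i ≫ c.ι.app N from cyc_hom_ext (by rw [cyc_one]; rfl)]
  rfl

end Groth.Agent.LamFin24
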