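import Groth.Agent.Lib.LamFin24.Pt
import Groth.Agent.Lib.EtStalk.OpenImm
import Groth.Agent.Lib.EtStalk.FiniteSplit
import Groth.Agent.Lib.LocConst24.Iff
import Groth.Agent.Lib.StrictLim24.Section
import Groth.Agent.Lib.PointLim24.ConstSections
import Groth.Prelude.Def_FinFr

/-!
# Local data of a constructible sheaf of modules
-/

set_option autoImplicit false
set_option linter.style.haveILetI false
set_option linter.unusedSectionVars false
set_option backward.isDefEq.respectTransparency false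
set_option backward.isDefEq.respectTransparency.types false

universe u

open CategoryTheory CategoryTheory.Limits AlgebraicGeometry Opposite CategoryTheory.Abelian

noncomputable section

namespace Groth.Agent.LamFin24

open Groth.Agent.EtStalk Groth.Agent.LocAcyc24

variable {Λ : Type} [CommRing Λ] {X : Scheme.{u}}

theorem nsmul_eq_zero_of_hom {A B : AddCommGrpCat.{u + 1}} (f : A ⟶ B) {n : ℕ} {a : A} {b : B} (hb : f a = b)
    (h : n • a = 0) : n • b = 0 := by rw [← hb, ← map_nsmul, h, map_zero]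

theorem eq_zero_of_nsmul_hom {A B : AddCommGrpCat.{u + 1}} (f : A ⟶ B) (hf : Function.Injective f) {n : ℕ} {a : A}
    (h : n • f a = 0) : n • a = 0 := hf (by rw [map_nsmul, map_zero, h])

/-- The inverse image along `u` is constant, linearly. -/
def Triv {U : Scheme.{u}} (L : EtLam.Sheaf Λ X) (u : U ⟶ X) (M : Type) [AddCommGroup M] [Module Λ M] : Prop :=
  ∃ φ : (pullL u L).carrier ⟶ (constL Λ U M).carrier, IsIso φ ∧ IsLin (pullL u L) (constL Λ U M) φ

theorem Triv.pull {U V : Scheme.{u}} {L : EtLam.Sheaf Λ X} {u : U ⟶ X} {M : Type} [AddCommGroup M] [Module Λ M]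
    (h : Triv L u M) (a : V ⟶ U) : Triv L (a ≫ u) M := by
  obtain ⟨φ, hφ, hl⟩ := h
  exact ⟨(EtCore.pullComp a u).hom.app L.carrier ≫ (EtCoh.pull a).map φ ≫ (EtCore.pullConst a M).hom, inferInstance,
    (isLin_pullCompHom a u L).comp ((hl.map_pull a).comp (isLin_pullConst a M))⟩

theorem Triv.of_pullL {T U : Scheme.{u}} {L : EtLam.Sheaf Λ X} {g : T ⟶ X} {v : U ⟶ T} {M : Type}
    [AddCommGroup M] [Module Λ M] (h : Triv (pullL g L) v M) : Triv L (v ≫ g) M := by
  obtain ⟨φ, hφ, hl⟩ := h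
  exact ⟨(EtCore.pullComp v g).hom.app L.carrier ≫ φ, inferInstance, (isLin_pullCompHom v g L).comp hl⟩

/-- A trivialisation on an étale scheme gives a trivialisation of the inverse image. -/
theorem triv_of_restr (L : EtLam.Sheaf Λ X) (U : X.Etale) (M : Type) [AddCommGroup M] [Module Λ M]
    (e : EtCoh.restr L.carrier U ≅ EtPBC.constOver U M)
    (he : ∀ r : Λ, (X.smallEtaleTopology.overPullback AddCommGrpCat.{u + 1} U).map (L.act r) ≫ e.hom =
      e.hom ≫ EtLam.constOverAct U M r) : Triv L U.hom M := by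
  let σ : ULift.{u + 1} M →+ L.carrier.obj.obj (op U) := LocConst24.rho e (𝟙 U)
  let x : U.left ⟶ X := U.hom
  let Z := U.left
  let G := (EtCoh.pull x).obj L.carrier
  let τ : ULift.{u + 1} M →+ G.obj.obj (op (EtCoh.top Z)) :=
    (StrictLim24.sec x L.carrier U (𝟙 Z) (Category.id_comp x)).comp σ
  let P : Z.Etaleᵒᵖ ⥤ AddCommGrpCat.{u + 1} :=
    (Functor.const Z.Etaleᵒᵖ).obj (AddCommGrpCat.of (ULift.{u + 1} M))
  let ν : P ⟶ G.obj :=
    { app := fun V => AddCommGrpCat.ofHom ((G.obj.map (EtPic3.toTop V.unop).op).hom.comp τ)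
      naturality := fun V V' f => AddCommGrpCat.ext fun m => by
        show G.obj.map (EtPic3.toTop V'.unop).op (τ m) = G.obj.map f (G.obj.map (EtPic3.toTop V.unop).op (τ m))
        rw [show f = f.unop.op from rfl, EtPic3.map_map]
        exact EtPic3.map_eq_map G (EtPic3.hom_ext_top _ _) _ }
  let ψ : (constL Λ Z M).carrier ⟶ G := ⟨sheafifyLift Z.smallEtaleTopology ν G.property⟩
  have hψ : toSheafify Z.smallEtaleTopology P ≫ ψ.hom = ν := toSheafify_sheafifyLift _ _ _
  have hcst : ∀ (V : Z.Etale) (m : ULift.{u + 1} M),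
      ψ.hom.app (op V) (cst (AddCommGrpCat.of (ULift.{u + 1} M)) V m) = G.obj.map (EtPic3.toTop V).op (τ m) :=
    fun V m => ConcreteCategory.congr_hom (congrArg (fun t : P ⟶ G.obj => t.app (op V)) hψ) m
  have hbij : ∀ (Ω : Type u) [Field Ω] [IsSepClosed Ω] (ξ : Spec (CommRingCat.of Ω) ⟶ Z)
      (φ : fib ξ (EtCoh.top Z)), Function.Bijective fun m => germ ξ G φ (τ m) := by
    intro Ω _ _ ξ φ
    let g := StrictLim24.topLift x U (𝟙 Z) (Category.id_comp x)
    let ψ' := (Scheme.pointSmallEtale ξ).fiber.map g φ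
    let v := dropFib x ξ ψ'
    have hl : ψ' = liftFib x ξ v := (((fiberIso x ξ).app U).toEquiv.apply_symm_apply ψ').symm
    have h : ∀ m, germ ξ G φ (τ m) = stalkPull x ξ L.carrier (germ (ξ ≫ x) L.carrier v (σ m)) := fun m => by
      show germ ξ G φ (StrictLim24.sec x L.carrier U (𝟙 Z) (Category.id_comp x) (σ m)) = _
      rw [StrictLim24.sec_apply]
      refine (germ_map ξ G g φ _).trans ?_
      refine (congrArg (fun r => germ ξ G r _) hl).trans ?_
      exact (germ_stalkPull x ξ L.carrier v (σ m)).symm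
    rw [funext h]
    have hb := LocConst24.bijAt_rho e Ω (ξ ≫ x) v
    have hσ : Function.Bijective fun m => germ (ξ ≫ x) L.carrier v (σ m) :=
      ((Function.Bijective.of_comp_iff _ AddEquiv.ulift.symm.bijective).1 hb)
    exact (ConcreteCategory.bijective_of_isIso (stalkPull x ξ L.carrier)).comp hσ
  haveI : IsIso ψ := (EtStalk.isIso_iff_stalk ψ).2 fun Ω _ _ ξ => by
    obtain ⟨φ⟩ : Nonempty (fib ξ (EtCoh.top Z)) := ⟨Over.homMk ξ (Category.comp_id ξ)⟩
    refine (Function.Bijective.of_comp_iff _ (bijective_germ_cst (AddCommGrpCat.of (ULift.{u + 1} M)) ξ φ)).1 ?_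
    refine Eq.mpr (congrArg Function.Bijective (funext fun m => ?_)) (hbij Ω ξ φ)
    refine (germ_nat ξ ψ φ _).trans (congrArg (germ ξ G φ) ((hcst _ m).trans ?_))
    rw [EtPic3.map_eq_map G (EtPic3.hom_ext_top (EtPic3.toTop (EtCoh.top Z)) (𝟙 _)) _, op_id,
      CategoryTheory.Functor.map_id]
    rfl
  have hσl : ∀ (r : Λ) (m : ULift.{u + 1} M), (L.act r : L.carrier ⟶ L.carrier).hom.app (op U) (σ m) = σ (r • m) := by
    intro r m
    have he' : EtLam.constOverAct U M r ≫ e.inv =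
        e.inv ≫ (X.smallEtaleTopology.overPullback AddCommGrpCat.{u + 1} U).map (L.act r) := by
      rw [Iso.comp_inv_eq, Category.assoc, he r, ← Category.assoc, Iso.inv_hom_id, Category.id_comp]
    let Q : (Over U)ᵒᵖ ⥤ AddCommGrpCat.{u + 1} :=
      (Functor.const (Over U)ᵒᵖ).obj (AddCommGrpCat.of (ULift.{u + 1} M))
    have h1 : toSheafify (X.smallEtaleTopology.over U) Q ≫ (EtLam.constOverAct U M r).hom =
        (Functor.const (Over U)ᵒᵖ).map (smulHom M r) ≫ toSheafify (X.smallEtaleTopology.over U) Q :=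
      (toSheafify_naturality (X.smallEtaleTopology.over U) ((Functor.const (Over U)ᵒᵖ).map (smulHom.{u} M r))).symm
    have h2 := congrArg (fun t => (toSheafify (X.smallEtaleTopology.over U) Q ≫ t.hom).app (op (Over.mk (𝟙 U))) m) he'
    refine h2.symm.trans ?_
    exact congrArg (e.inv.hom.app (op (Over.mk (𝟙 U))))
      (ConcreteCategory.congr_hom (congrArg (fun t : Q ⟶ (EtPBC.constOver U M).obj => t.app (op (Over.mk (𝟙 U)))) h1) m)
  have hlin' : IsLin (constL Λ Z M) (pullL x L) ψ := fun r => by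
    refine CategoryTheory.Sheaf.hom_ext (sheafify_hom_ext Z.smallEtaleTopology _ _ G.property ?_)
    ext V m
    obtain ⟨V⟩ := V
    change ULift.{u + 1} M at m
    have hn : ((cs Z).map (smulHom.{u} M r)).hom.app (op V) (cst (AddCommGrpCat.of (ULift.{u + 1} M)) V m) =
        cst (AddCommGrpCat.of (ULift.{u + 1} M)) V (r • m) :=
      (ConcreteCategory.congr_hom (congrArg (fun t : P ⟶ ((cs Z).obj (AddCommGrpCat.of (ULift.{u + 1} M))).obj =>
          t.app (op V))
        (toSheafify_naturality Z.smallEtaleTopology ((Functor.const Z.Etaleᵒᵖ).map (smulHom.{u} M r)))) m).symm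
    show ψ.hom.app (op V) (((cs Z).map (smulHom.{u} M r)).hom.app (op V) (cst _ V m)) =
      ((EtCoh.pull x).map (actM L r)).hom.app (op V) (ψ.hom.app (op V) (cst _ V m))
    rw [hn, hcst, hcst, EtPic3.app_natural]
    refine congrArg (G.obj.map (EtPic3.toTop V).op) ?_
    show StrictLim24.sec x L.carrier U (𝟙 Z) (Category.id_comp x) (σ (r • m)) = _
    rw [← hσl r m, ← StrictLim24.sec_nat]
    rfl
  exact ⟨inv ψ, inferInstance, hlin'.inv⟩

/-- Every point of a constructible sheaf lies in a piece over which it becomes constant. -/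
theorem exists_strata_triv {L : EtLam.Sheaf Λ X} (hL : EtLam.IsConstructible L) (x₀ : X) :
    ∃ (T : Scheme.{u}) (g : T ⟶ X) (_ : IsImmersion g) (U : T.Etale) (z : U.left),
      (U.hom ≫ g) z = x₀ ∧ (∀ η : X, η ∈ genericPoints X → η ∈ Set.range g → ∃ z' : T, g z' = η) ∧
      ∃ (M : Type) (_ : AddCommGroup M) (_ : Module Λ M) (_ : Module.Finite Λ M), Triv L (U.hom ≫ g) M := by
  obtain ⟨V, hV, hx, -⟩ := exists_isAffineOpen_mem_and_subset (U := (⊤ : X.Opens)) (x := x₀) trivial
  obtain ⟨n, T, g, hg, -, -, hu, hf⟩ := hL V hV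
  obtain ⟨i, t, ht⟩ := Set.mem_iUnion.1 (hu.ge hx)
  haveI := hg i
  haveI : (EtCoh.pull (g i)).Additive := inferInstance
  obtain ⟨ι, U, hU, h⟩ := hf i
  obtain ⟨a, z, hz⟩ := hU t
  obtain ⟨M, _, _, hMf, e, he⟩ := h a
  refine ⟨T i, g i, hg i, U a, z, ?_, fun η _ hη => hη, M, inferInstance, inferInstance, hMf,
    Triv.of_pullL (triv_of_restr (pullL (g i) L) (U a) M e he)⟩
  rw [Scheme.Hom.comp_apply]
  exact (congrArg (g i) hz).trans ht

/-- The property of the torsion orders on stalks. -/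
def StalkTors (P : ℕ → Prop) (F : EtCoh.Ab X) : Prop :=
  ∀ (Ω : Type u) [Field Ω] [IsSepClosed Ω] (ξ : Spec (CommRingCat.of Ω) ⟶ X) (p : (EtCoh.stalk ξ).obj F),
    ∃ n : ℕ, P n ∧ n • p = 0

/-- The value of a constant inverse image is killed by an integer. -/
theorem exists_annihilator {L : EtLam.Sheaf Λ X} {P : ℕ → Prop} (h1 : P 1) (hmul : ∀ a b, P a → P b → P (a * b))
    (ht : StalkTors P L.carrier) {U : Scheme.{u}} {u : U ⟶ X} {M : Type} [AddCommGroup M] [Module Λ M]
    [Module.Finite Λ M] (h : Triv L u M) (z : U) : ∃ n : ℕ, P n ∧ ∀ m : M, n • m = 0 := by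
  obtain ⟨φ, hφ, -⟩ := h
  let ξ := geomPt U z
  obtain ⟨v⟩ : Nonempty (fib ξ (EtCoh.top U)) := ⟨Over.homMk ξ (Category.comp_id ξ)⟩
  have hm : ∀ m : M, ∃ n, P n ∧ n • m = 0 := fun m => by
    let A : AddCommGrpCat.{u + 1} := AddCommGrpCat.of (ULift.{u + 1} M)
    let p := germ ξ ((cs U).obj A) v (cst A (EtCoh.top U) (ULift.up m))
    obtain ⟨q', hq'⟩ := (ConcreteCategory.bijective_of_isIso ((EtCoh.stalk ξ).map φ)).2 p
    obtain ⟨q, hq⟩ := (ConcreteCategory.bijective_of_isIso (stalkPull u ξ L.carrier)).2 q'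
    obtain ⟨n, hn, hn0⟩ := ht _ (ξ ≫ u) q
    refine ⟨n, hn, congrArg ULift.down ((bijective_germ_cst A ξ v).1 (a₁ := n • ULift.up m) (a₂ := 0) ?_)⟩
    show germ ξ ((cs U).obj A) v (cst A (EtCoh.top U) (n • ULift.up m)) = germ ξ _ v (cst A (EtCoh.top U) 0)
    rw [map_nsmul, map_nsmul, map_zero, map_zero]
    show n • p = 0
    exact nsmul_eq_zero_of_hom ((EtCoh.stalk ξ).map φ) hq' (nsmul_eq_zero_of_hom (stalkPull u ξ L.carrier) hq hn0)
  choose n hn hn0 using hm
  obtain ⟨s, hs⟩ := (inferInstance : Module.Finite Λ M).fg_top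
  classical
  refine ⟨∏ m ∈ s, n m, Finset.prod_induction n P hmul h1 fun m _ => hn m, fun m => ?_⟩
  have hm' : m ∈ Submodule.span Λ (s : Set M) := hs ▸ trivial
  induction hm' using Submodule.span_induction with
  | mem x hx =>
    obtain ⟨c, hc⟩ := Finset.dvd_prod_of_mem n (show x ∈ s from hx)
    rw [hc, mul_comm, mul_nsmul', hn0, nsmul_zero]
  | zero => exact nsmul_zero _
  | add x y _ _ hx hy => rw [nsmul_add, hx, hy, add_zero]
  | smul r x _ hx => rw [← smul_comm, hx, smul_zero]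

/-- Generic points have neighbourhoods, quasi-finite over the space, with constant inverse image. -/
def GenTriv (P : ℕ → Prop) (L : EtLam.Sheaf Λ X) : Prop :=
  ∀ η ∈ genericPoints X, ∃ (U : Scheme.{u}) (u : U ⟶ X) (_ : LocallyOfFiniteType u) (z : U),
    u z = η ∧ LocallyQuasiFinite u ∧
    ∃ (M : Type) (_ : AddCommGroup M) (_ : Module Λ M) (_ : Module.Finite Λ M) (n : ℕ),
      P n ∧ (∀ m : M, n • m = 0) ∧ Triv L u M

section Constructible

variable {L : EtLam.Sheaf Λ X} (hL : EtLam.IsConstructible L) {P : ℕ → Prop} (h1 : P 1)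
  (hmul : ∀ a b, P a → P b → P (a * b)) (ht : StalkTors P L.carrier) [IsLocallyNoetherian X]

include hL h1 hmul ht in
theorem genTriv_of_constructible : GenTriv P L := by
  intro η _
  obtain ⟨T, g, hg, U, z, hz, -, M, _, _, hM, h⟩ := exists_strata_triv hL η
  haveI := hg
  haveI : AlgebraicGeometry.Etale U.hom := U.prop
  haveI : LocallyQuasiFinite U.hom := FiniteSplit.locallyQuasiFinite_of_etale U.hom
  obtain ⟨n, hn, hn0⟩ := exists_annihilator h1 hmul ht h z
  exact ⟨U.left, U.hom ≫ g, inferInstance, z, hz, inferInstance, M, inferInstance, inferInstance, hM, n, hn, hn0, h⟩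

include hL h1 hmul ht in
theorem ptFin_of_constructible [IsNoetherianRing Λ] {k : Type u} [Field k] [IsAlgClosed k]
    (hne : ∀ n, P n → n ≠ 0) : PtFin k L := by
  intro ξ
  obtain ⟨T, g, hg, U, z, hz, -, M, _, _, hM, h⟩ := exists_strata_triv hL (ξ default)
  haveI := hg
  have h0 : ξ default ∈ Set.range g := ⟨U.hom z, by rw [← hz, Scheme.Hom.comp_apply]; rfl⟩
  obtain ⟨t, ht0⟩ := h0
  obtain ⟨ζ₁, hζ₁⟩ := exists_lift_point_open g.coborderRange.ι ξ (by
    rw [Scheme.Opens.range_ι, ← ht0, show g t = g.coborderRange.ι (g.liftCoborder t) by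
      rw [← Scheme.Hom.comp_apply, g.liftCoborder_ι]]
    exact (g.liftCoborder t).2)
  obtain ⟨ζ, hζ⟩ := EtStalk.exists_lift_point g.liftCoborder ζ₁ ⟨t, g.coborderRange.ι.injective (by
    rw [← Scheme.Hom.comp_apply, g.liftCoborder_ι, ht0, ← Scheme.Hom.comp_apply, hζ₁])⟩
  have hζg : ζ ≫ g = ξ := by rw [← g.liftCoborder_ι, ← Category.assoc, hζ, hζ₁]
  have hζz : ζ default = U.hom z := g.injective (by
    rw [← Scheme.Hom.comp_apply, hζg, ← hz, Scheme.Hom.comp_apply]; rfl)
  obtain ⟨φ, -⟩ := Scheme.pointSmallEtaleFiberObjToPreimage_surjective ζ hζz U ⟨z, rfl⟩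
  obtain ⟨n, hn, hn0⟩ := exists_annihilator h1 hmul ht h z
  let a : Spec (CommRingCat.of k) ⟶ U.left := φ.left
  have hc : a ≫ U.hom ≫ g = ξ := by
    rw [← Category.assoc]
    exact (congrArg (· ≫ g) (Over.w φ)).trans hζg
  obtain ⟨ψ, hψ, hl⟩ := hc ▸ h.pull a
  refine finite_of_iso (inv ψ) hl.inv 0 ?_
  exact finite_H_constL (Λ := Λ) (Spec (CommRingCat.of k)) M 0 n (hne n hn) hn0 fun d hd =>
    haveI : NeZero d := ⟨fun h0 => hne n hn (Nat.eq_zero_of_zero_dvd (h0 ▸ hd))⟩
    CurveFin32.finite_H_spec (ZMod d) 0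

end Constructible

theorem stalkTors_of_isTorsion {F : EtCoh.Ab X} (hF : EtCoh.IsTorsion F) : StalkTors (fun n => n ≠ 0) F := by
  intro Ω _ _ ξ p
  obtain ⟨U, φ, s, rfl⟩ := germ_surjective _ _ p
  obtain ⟨V, g, ⟨v, hv⟩, hfin⟩ := hF U s (fibPt φ)
  obtain ⟨N, hN, h0⟩ := isOfFinAddOrder_iff_nsmul_eq_zero.1 hfin
  refine ⟨N, hN.ne', ?_⟩
  have h := (mem_agree_iff_germ F φ (N • s) 0).1 ⟨V, g, ⟨v, hv⟩, by rw [map_nsmul, map_zero]; exact h0⟩
  rwa [map_nsmul, map_zero] at h

theorem stalkTors_of_invertible {k : Type u} [Field k] {F : EtCoh.Ab X}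
    (hF : EtPBC.IsTorsionInvertibleOn (Spec (CommRingCat.of k)) F) : StalkTors (fun n => (n : k) ≠ 0) F := by
  intro Ω _ _ ξ p
  obtain ⟨U, φ, s, rfl⟩ := germ_surjective _ _ p
  obtain ⟨V, g, N, ⟨v, hv⟩, hN, h0⟩ := hF U s (fibPt φ)
  refine ⟨N, fun hk => ?_, ?_⟩
  · have h1 := hN.map (Scheme.ΓSpecIso (CommRingCat.of k)).hom.hom
    rw [map_natCast] at h1
    exact h1.ne_zero hk
  · have h := (mem_agree_iff_germ F φ (N • s) 0).1 ⟨V, g, ⟨v, hv⟩, by rw [map_nsmul, map_zero]; exact h0⟩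
    rwa [map_nsmul, map_zero] at h

section ExtZero

variable {P : Scheme.{u}} (j : X ⟶ P) [IsOpenImmersion j] [AlgebraicGeometry.Etale j] [EtShriek.JCont j]
  (L : EtLam.Sheaf Λ X)

theorem exists_restrict_extZero :
    ∃ φ : L.carrier ⟶ (pullL j (FinFr.extZeroLam j L)).carrier, IsIso φ ∧
      IsLin L (pullL j (FinFr.extZeroLam j L)) φ := by
  refine ⟨(EtShriek.extZeroAdj j).unit.app L.carrier ≫ (EtStalk.restrPullIso j).hom.app _, inferInstance, fun r => ?_⟩
  have h1 := (EtShriek.extZeroAdj j).unit.naturality (actM L r)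
  have h2 := (EtStalk.restrPullIso j).hom.naturality ((EtShriek.extZero j).map (actM L r))
  refine (Category.assoc _ _ _).symm.trans ((congrArg (· ≫ _) h1).trans ?_)
  refine (Category.assoc _ _ _).trans ((congrArg (_ ≫ ·) h2).trans ?_)
  exact (Category.assoc _ _ _).symm

theorem subsingleton_stalk_extZero {Ω : Type u} [Field Ω] [IsSepClosed Ω] (ξ : Spec (CommRingCat.of Ω) ⟶ P)
    (h : ξ (default : Spec (CommRingCat.of Ω)) ∉ Set.range j) :
    Subsingleton ((EtCoh.stalk ξ).obj (FinFr.extZeroLam j L).carrier) :=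
  AddCommGrpCat.subsingleton_of_isZero (EtStalk.stalk_extZero_isZero j L.carrier ξ h)

theorem stalkTors_extZero {Q : ℕ → Prop} (h1 : Q 1) (h : StalkTors Q L.carrier) :
    StalkTors Q (FinFr.extZeroLam j L).carrier := by
  intro Ω _ _ ξ p
  by_cases hξ : ξ (default : Spec (CommRingCat.of Ω)) ∈ Set.range j
  · obtain ⟨ζ, rfl⟩ := EtStalk.exists_lift_point_open j ξ hξ
    obtain ⟨φ, hφ, -⟩ := exists_restrict_extZero j L
    obtain ⟨q, hq⟩ := (ConcreteCategory.bijective_of_isIso ((EtCoh.stalk ζ).map φ)).2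
      (stalkPull j ζ (FinFr.extZeroLam j L).carrier p)
    obtain ⟨n, hn, hn0⟩ := h Ω ζ q
    exact ⟨n, hn, eq_zero_of_nsmul_hom _
      (ConcreteCategory.bijective_of_isIso (stalkPull j ζ (FinFr.extZeroLam j L).carrier)).1
      (nsmul_eq_zero_of_hom _ hq hn0)⟩
  · exact ⟨1, h1, @Subsingleton.elim _ (subsingleton_stalk_extZero j L ξ hξ) _ _⟩

theorem isZero_pull_extZero {V : Scheme.{u}} (u : V ⟶ P) (h : ∀ v, u v ∉ Set.range j) :
    IsZero ((EtCoh.pull u).obj (FinFr.extZeroLam j L).carrier) :=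
  (EtStalk.isZero_iff_stalk _).2 fun Ω _ _ ζ =>
    haveI := subsingleton_stalk_extZero j L (ζ ≫ u) (by rw [Scheme.Hom.comp_apply]; exact h _)
    haveI : Subsingleton ((EtCoh.stalk ζ).obj ((EtCoh.pull u).obj (FinFr.extZeroLam j L).carrier)) :=
      (Equiv.ofBijective _ (ConcreteCategory.bijective_of_isIso (stalkPull u ζ _))).symm.subsingleton
    AddCommGrpCat.isZero_of_subsingleton _

theorem ptFin_extZero [IsNoetherianRing Λ] {k : Type u} [Field k] [IsAlgClosed k] (h : PtFin k L) :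
    PtFin k (FinFr.extZeroLam j L) := by
  intro ξ
  by_cases hξ : ξ (default : Spec (CommRingCat.of k)) ∈ Set.range j
  · obtain ⟨ζ, rfl⟩ := EtStalk.exists_lift_point_open j ξ hξ
    obtain ⟨φ, hφ, hl⟩ := exists_restrict_extZero j L
    have h1 : Module.Finite Λ (EtCoh.H _ (pullL ζ (pullL j (FinFr.extZeroLam j L))).carrier 0) :=
      finite_of_iso (A := pullL ζ L) (B := pullL ζ (pullL j (FinFr.extZeroLam j L))) ((EtCoh.pull ζ).map φ)
        (hl.map_pull ζ) 0 (h ζ)
    exact finite_of_iso (A := pullL ζ (pullL j (FinFr.extZeroLam j L))) (B := pullL (ζ ≫ j) (FinFr.extZeroLam j L))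
      ((EtCore.pullComp ζ j).inv.app (FinFr.extZeroLam j L).carrier) (isLin_pullCompInv ζ j _) 0 h1
  · have hz := isZero_pull_extZero j L ξ fun v => by rw [Subsingleton.elim v default]; exact hξ
    haveI : Subsingleton (EtCoh.H (Spec (CommRingCat.of k)) (pullL ξ (FinFr.extZeroLam j L)).carrier 0) :=
      subsingleton_of_forall_eq 0 fun x => by
        have h0 : 𝟙 (pullL ξ (FinFr.extZeroLam j L)).carrier = 0 := hz.eq_of_src _ _
        rw [← Ext.comp_mk₀_id x, h0, Ext.mk₀_zero, Ext.comp_zero]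
    exact Module.Finite.of_finite

theorem genTriv_extZero [CompactSpace P] [IsLocallyNoetherian P] {Q : ℕ → Prop} (h1 : Q 1) (h : GenTriv Q L) :
    GenTriv Q (FinFr.extZeroLam j L) := by
  intro η hη
  by_cases hj : η ∈ Set.range j
  · obtain ⟨x, rfl⟩ := hj
    have hx : x ∈ genericPoints X := by
      refine ⟨isIrreducible_singleton.closure, fun t ht hle y hy => ?_⟩
      have h1 : closure {j x} ⊆ closure (j '' t) :=
        closure_mono (Set.singleton_subset_iff.2 ⟨x, hle (subset_closure rfl), rfl⟩)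
      have h2 : j y ∈ closure {j x} :=
        hη.2 (ht.image j j.continuous.continuousOn).closure h1 (subset_closure ⟨y, hy, rfl⟩)
      exact specializes_iff_mem_closure.1
        (j.isOpenEmbedding.isInducing.specializes_iff.1 (specializes_iff_mem_closure.2 h2))
    obtain ⟨U, u, hu, z, hz, hfin, M, _, _, hM, n, hn, hn0, φ, hφ, hl⟩ := h x hx
    haveI := hu
    obtain ⟨φj, hφj, hlj⟩ := exists_restrict_extZero j L
    haveI := hfin
    exact ⟨U, u ≫ j, inferInstance, z, by rw [Scheme.Hom.comp_apply, hz], inferInstance, M, inferInstance,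
      inferInstance, hM, n, hn, hn0,
      Triv.of_pullL ⟨(EtCoh.pull u).map (inv φj) ≫ φ, inferInstance, (hlj.inv.map_pull u).comp hl⟩⟩
  · haveI : IsNoetherian P := {}
    let O : P.Opens := ⟨(closure (Set.range j))ᶜ, isClosed_closure.isOpen_compl⟩
    have hO : η ∈ O := by
      intro hc
      have hfin := (TopologicalSpace.NoetherianSpace.finite_irreducibleComponents (α := P)).sdiff
        (t := {closure ({η} : Set P)})
      let W : Set P := (⋃ C ∈ irreducibleComponents P \ {closure ({η} : Set P)}, C)ᶜ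
      have hW : IsOpen W := (hfin.isClosed_biUnion fun C hC => isClosed_of_mem_irreducibleComponents C hC.1).isOpen_compl
      have hηW : η ∈ W := by
        simp only [W, Set.mem_compl_iff, Set.mem_iUnion, not_exists]
        intro C hC hηC
        have h1 : closure ({η} : Set P) ⊆ C :=
          closure_minimal (Set.singleton_subset_iff.2 hηC) (isClosed_of_mem_irreducibleComponents C hC.1)
        exact hC.2 (Set.Subset.antisymm (hη.2 hC.1.1 h1) h1)
      obtain ⟨y, hyW, hy⟩ := mem_closure_iff.1 hc W hW hηW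
      have hyC : irreducibleComponent y = closure ({η} : Set P) := by
        by_contra hne
        exact hyW (Set.mem_biUnion ⟨irreducibleComponent_mem_irreducibleComponents y, hne⟩ mem_irreducibleComponent)
      have hyη : η ⤳ y := specializes_iff_mem_closure.2 (hyC ▸ mem_irreducibleComponent)
      exact hj (hyη.mem_open j.isOpenEmbedding.isOpen_range hy)
    haveI hz := isZero_pull_extZero j L O.ι fun v hv => v.2 (subset_closure (by exact hv))
    refine ⟨O, O.ι, inferInstance, ⟨η, hO⟩, rfl, inferInstance, PUnit, inferInstance, inferInstance,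
      inferInstance, 1, h1, fun m => Subsingleton.elim _ _, 0, ?_, fun r => by rw [comp_zero, zero_comp]⟩
    have hz' : IsZero (constL Λ (O : Scheme.{u}) PUnit).carrier :=
      Functor.map_isZero (cs (O : Scheme.{u})) (AddCommGrpCat.isZero_of_subsingleton _)
    exact ⟨0, hz.eq_of_src _ _, hz'.eq_of_src _ _⟩

end ExtZero

end Groth.Agent.LamFin24
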