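import Groth.Prelude.Def_EtLam
import Groth.Agent.Lib.FieldH25.Transfer
import Groth.Agent.Lib.LocAcyc24.TorsionConst
import Mathlib.RingTheory.Noetherian.Basic

/-!
# Equivariant morphisms of sheaves of modules and finiteness of their cohomology
-/

set_option autoImplicit false
set_option linter.style.haveILetI false
set_option linter.unusedSectionVars false
set_option backward.isDefEq.respectTransparency false
set_option backward.isDefEq.respectTransparency.types false

universe u

open CategoryTheory CategoryTheory.Limits AlgebraicGeometry Opposite CategoryTheory.Abelian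

attribute [local instance] Abelian.hasFiniteBiproducts

noncomputable section

namespace Groth.Agent.LamFin24

variable {Λ : Type} [CommRing Λ] {X Y : Scheme.{u}}

/-- The action as a morphism of sheaves. -/
abbrev actM (L : EtLam.Sheaf Λ X) (r : Λ) : L.carrier ⟶ L.carrier := L.act r

/-- A morphism commuting with the actions. -/
def IsLin (A B : EtLam.Sheaf Λ X) (φ : A.carrier ⟶ B.carrier) : Prop :=
  ∀ r : Λ, actM A r ≫ φ = φ ≫ actM B r

theorem IsLin.comp {A B C : EtLam.Sheaf Λ X} {φ : A.carrier ⟶ B.carrier} {ψ : B.carrier ⟶ C.carrier}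
    (hφ : IsLin A B φ) (hψ : IsLin B C ψ) : IsLin A C (φ ≫ ψ) := fun r => by
  rw [← Category.assoc, hφ r, Category.assoc, hψ r, Category.assoc]

theorem IsLin.inv {A B : EtLam.Sheaf Λ X} {φ : A.carrier ⟶ B.carrier} [IsIso φ] (hφ : IsLin A B φ) :
    IsLin B A (inv φ) := fun r => by
  rw [← cancel_epi φ, ← Category.assoc, ← hφ r, Category.assoc, IsIso.hom_inv_id, Category.comp_id,
    IsIso.hom_inv_id_assoc]

/-- The linear map on cohomology. -/
def hlin {A B : EtLam.Sheaf Λ X} (φ : A.carrier ⟶ B.carrier) (h : IsLin A B φ) (q : ℕ) :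
    EtCoh.H X A.carrier q →ₗ[Λ] EtCoh.H X B.carrier q where
  toFun x := Sheaf.H.map φ q x
  map_add' x y := map_add _ x y
  map_smul' r x := by
    show Sheaf.H.map φ q (Sheaf.H.map (actM A r) q x) = Sheaf.H.map (actM B r) q (Sheaf.H.map φ q x)
    rw [← Sheaf.H.map_comp_apply, ← Sheaf.H.map_comp_apply, h r]

theorem hlin_apply {A B : EtLam.Sheaf Λ X} (φ : A.carrier ⟶ B.carrier) (h : IsLin A B φ) (q : ℕ)
    (x : EtCoh.H X A.carrier q) : hlin φ h q x = x.comp (Ext.mk₀ φ) (add_zero q) := rfl

theorem hlin_injective_zero {A B : EtLam.Sheaf Λ X} (φ : A.carrier ⟶ B.carrier) [Mono φ] (h : IsLin A B φ) :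
    Function.Injective (hlin φ h 0) := fun a b hab => by
  obtain ⟨a, rfl⟩ := (Ext.mk₀_bijective _ _).2 a
  obtain ⟨b, rfl⟩ := (Ext.mk₀_bijective _ _).2 b
  rw [hlin_apply, hlin_apply, Ext.mk₀_comp_mk₀, Ext.mk₀_comp_mk₀] at hab
  exact congrArg _ ((cancel_mono φ).1 ((Ext.mk₀_bijective _ _).1 hab))

/-- Transport of finiteness along an equivariant isomorphism. -/
theorem finite_of_iso {A B : EtLam.Sheaf Λ X} (φ : A.carrier ⟶ B.carrier) [IsIso φ] (h : IsLin A B φ) (q : ℕ)
    (hA : Module.Finite Λ (EtCoh.H X A.carrier q)) : Module.Finite Λ (EtCoh.H X B.carrier q) :=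
  haveI := hA
  Module.Finite.of_surjective (hlin φ h q) fun y => ⟨hlin (inv φ) h.inv q y, by
    show Sheaf.H.map φ q (Sheaf.H.map (inv φ) q y) = y
    rw [← Sheaf.H.map_comp_apply, IsIso.inv_hom_id, Sheaf.H.map_id_apply]⟩

section Noeth

variable [IsNoetherianRing Λ]

/-- A retract of a sheaf with finite cohomology has finite cohomology. -/
theorem finite_of_retract {A B : EtLam.Sheaf Λ X} (s : A.carrier ⟶ B.carrier) (r : B.carrier ⟶ A.carrier)
    (hr : IsLin B A r) (hsr : s ≫ r = 𝟙 _) (q : ℕ) (hB : Module.Finite Λ (EtCoh.H X B.carrier q)) :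
    Module.Finite Λ (EtCoh.H X A.carrier q) :=
  haveI := hB
  Module.Finite.of_surjective (hlin r hr q) fun y => ⟨Sheaf.H.map s q y, by
    show Sheaf.H.map r q (Sheaf.H.map s q y) = y
    rw [← Sheaf.H.map_comp_apply, hsr, Sheaf.H.map_id_apply]⟩

/-- A short exact sequence with equivariant maps. -/
structure Seq (A B C : EtLam.Sheaf Λ X) where
  f : A.carrier ⟶ B.carrier
  g : B.carrier ⟶ C.carrier
  zero : f ≫ g = 0
  hf : IsLin A B f
  hg : IsLin B C g
  exact : (ShortComplex.mk f g zero).ShortExact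

variable {A B C : EtLam.Sheaf Λ X}

theorem Seq.finite_mid (S : Seq A B C) (q : ℕ) (hA : Module.Finite Λ (EtCoh.H X A.carrier q))
    (hC : Module.Finite Λ (EtCoh.H X C.carrier q)) : Module.Finite Λ (EtCoh.H X B.carrier q) := by
  haveI := hA
  haveI := hC
  have he : (hlin S.f S.hf q).range = (hlin S.g S.hg q).ker := by
    ext x
    constructor
    · rintro ⟨y, rfl⟩
      show (y.comp (Ext.mk₀ S.f) (add_zero q)).comp (Ext.mk₀ S.g) (add_zero q) = 0
      rw [Ext.comp_assoc_of_second_deg_zero, Ext.mk₀_comp_mk₀, S.zero, Ext.mk₀_zero, Ext.comp_zero]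
    · intro hx
      obtain ⟨y, hy⟩ := Ext.covariant_sequence_exact₂ _ S.exact x hx
      exact ⟨y, hy⟩
  haveI : IsNoetherian Λ (EtCoh.H X B.carrier q) :=
    isNoetherian_of_range_eq_ker (hlin S.f S.hf q) (hlin S.g S.hg q) he
  exact inferInstance

/-- The connecting map. -/
def Seq.δ (S : Seq A B C) (q : ℕ) : EtCoh.H X C.carrier q →ₗ[Λ] EtCoh.H X A.carrier (q + 1) where
  toFun x := x.comp S.exact.extClass rfl
  map_add' x y := Ext.add_comp _ _ _ _
  map_smul' r x := by
    show (x.comp (Ext.mk₀ (actM C r)) (add_zero q)).comp S.exact.extClass rfl =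
      (x.comp S.exact.extClass rfl).comp (Ext.mk₀ (actM A r)) (add_zero (q + 1))
    have h := ShortComplex.ShortExact.extClass_naturality S.exact S.exact
      { τ₁ := actM A r, τ₂ := actM B r, τ₃ := actM C r, comm₁₂ := S.hf r, comm₂₃ := S.hg r }
    rw [Ext.comp_assoc_of_second_deg_zero, ← h, Ext.comp_assoc_of_third_deg_zero]

theorem Seq.finite_left (S : Seq A B C) (q : ℕ) (hB : Module.Finite Λ (EtCoh.H X B.carrier q))
    (hC : ∀ p, p + 1 = q → Module.Finite Λ (EtCoh.H X C.carrier p)) :
    Module.Finite Λ (EtCoh.H X A.carrier q) := by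
  haveI := hB
  match q with
  | 0 =>
    haveI : Mono S.f := S.exact.mono_f
    exact Module.Finite.of_injective (hlin S.f S.hf 0) (hlin_injective_zero S.f S.hf)
  | p + 1 =>
    haveI := hC p rfl
    have he : (S.δ p).range = (hlin S.f S.hf (p + 1)).ker := by
      ext x
      constructor
      · rintro ⟨y, rfl⟩
        show (y.comp S.exact.extClass (rfl : p + 1 = p + 1)).comp (Ext.mk₀ S.f) (add_zero (p + 1)) = 0
        rw [Ext.comp_assoc_of_third_deg_zero]
        erw [S.exact.extClass_comp]
        rw [Ext.comp_zero]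
      · intro hx
        obtain ⟨y, hy⟩ := Ext.covariant_sequence_exact₁ _ S.exact x hx (n₀ := p) rfl
        exact ⟨y, hy⟩
    haveI : IsNoetherian Λ (EtCoh.H X A.carrier (p + 1)) :=
      isNoetherian_of_range_eq_ker (S.δ p) (hlin S.f S.hf (p + 1)) he
    exact inferInstance

end Noeth

/-- The cokernel with its action. -/
def cokerL {A B : EtLam.Sheaf Λ X} (φ : A.carrier ⟶ B.carrier) (h : IsLin A B φ) : EtLam.Sheaf Λ X where
  carrier := cokernel φ
  act :=
    { toFun := fun r => cokernel.map φ φ (actM A r) (actM B r) (h r).symm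
      map_one' := coequalizer.hom_ext (by simp [actM, End.one_def])
      map_mul' := fun r s => coequalizer.hom_ext (by simp [actM, End.mul_def])
      map_zero' := coequalizer.hom_ext (by simp [actM])
      map_add' := fun r s => coequalizer.hom_ext (by
          rw [Preadditive.comp_add, cokernel.π_desc, cokernel.π_desc, cokernel.π_desc]
          simp only [actM, map_add]
          exact Preadditive.add_comp _ _ _ _ _ _) }

/-- The kernel with its action. -/
def kerL {A B : EtLam.Sheaf Λ X} (φ : A.carrier ⟶ B.carrier) (h : IsLin A B φ) : EtLam.Sheaf Λ X where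
  carrier := kernel φ
  act :=
    { toFun := fun r => kernel.map φ φ (actM A r) (actM B r) (h r).symm
      map_one' := equalizer.hom_ext (by simp [actM, End.one_def])
      map_mul' := fun r s => equalizer.hom_ext (by simp [actM, End.mul_def])
      map_zero' := equalizer.hom_ext (by simp [actM])
      map_add' := fun r s => equalizer.hom_ext (by
          rw [Preadditive.add_comp, kernel.lift_ι, kernel.lift_ι, kernel.lift_ι]
          simp only [actM, map_add]
          exact Preadditive.comp_add _ _ _ _ _ _) }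

theorem isLin_cokerπ {A B : EtLam.Sheaf Λ X} (φ : A.carrier ⟶ B.carrier) (h : IsLin A B φ) :
    IsLin B (cokerL φ h) (cokernel.π φ) := fun r => (cokernel.π_desc φ _ _).symm

theorem isLin_kerι {A B : EtLam.Sheaf Λ X} (φ : A.carrier ⟶ B.carrier) (h : IsLin A B φ) :
    IsLin (kerL φ h) A (kernel.ι φ) := fun r => kernel.lift_ι φ _ _

/-- The sequence of a monomorphism. -/
def monoSeq {A B : EtLam.Sheaf Λ X} (φ : A.carrier ⟶ B.carrier) [Mono φ] (h : IsLin A B φ) :
    Seq A B (cokerL φ h) :=
  ⟨φ, cokernel.π φ, cokernel.condition φ, h, isLin_cokerπ φ h,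
    { exact := ShortComplex.exact_of_g_is_cokernel _ (cokernelIsCokernel φ) }⟩

/-- The sequence of an epimorphism. -/
def epiSeq {A B : EtLam.Sheaf Λ X} (φ : A.carrier ⟶ B.carrier) [Epi φ] (h : IsLin A B φ) :
    Seq (kerL φ h) A B :=
  ⟨kernel.ι φ, φ, kernel.condition φ, isLin_kerι φ h, h,
    { exact := ShortComplex.exact_of_f_is_kernel _ (kernelIsKernel φ) }⟩

theorem isLin_factorThruImage {A B : EtLam.Sheaf Λ X} (φ : A.carrier ⟶ B.carrier) (h : IsLin A B φ) :
    IsLin A (kerL (A := B) (B := cokerL φ h) (cokernel.π φ) (isLin_cokerπ φ h)) (Abelian.factorThruImage φ) := fun r => by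
  refine equalizer.hom_ext ?_
  have h1 : Abelian.factorThruImage φ ≫ kernel.ι (cokernel.π φ) = φ := kernel.lift_ι _ _ _
  have h2 : actM (kerL (A := B) (B := cokerL φ h) (cokernel.π φ) (isLin_cokerπ φ h)) r ≫ kernel.ι (cokernel.π φ) =
      kernel.ι (cokernel.π φ) ≫ actM B r := kernel.lift_ι _ _ _
  show (actM A r ≫ Abelian.factorThruImage φ) ≫ kernel.ι (cokernel.π φ) =
    (Abelian.factorThruImage φ ≫ actM (kerL (A := B) (B := cokerL φ h) (cokernel.π φ) (isLin_cokerπ φ h)) r) ≫
      kernel.ι (cokernel.π φ)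
  exact (Category.assoc _ _ _).trans ((congrArg (actM A r ≫ ·) h1).trans ((h r).trans
    ((congrArg (· ≫ actM B r) h1).symm.trans ((Category.assoc _ _ _).trans
      ((congrArg (Abelian.factorThruImage φ ≫ ·) h2).symm.trans (Category.assoc _ _ _).symm)))))

/-- Finiteness from kernel, image and cokernel. -/
theorem finite_of_map [IsNoetherianRing Λ] {A B : EtLam.Sheaf Λ X} (φ : A.carrier ⟶ B.carrier) (h : IsLin A B φ)
    (q : ℕ) (hK : Module.Finite Λ (EtCoh.H X (kerL φ h).carrier q))
    (hC : ∀ p, p + 1 = q → Module.Finite Λ (EtCoh.H X (cokerL φ h).carrier p))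
    (hB : Module.Finite Λ (EtCoh.H X B.carrier q)) : Module.Finite Λ (EtCoh.H X A.carrier q) := by
  let I := kerL (A := B) (B := cokerL φ h) (cokernel.π φ) (isLin_cokerπ φ h)
  have hI : Module.Finite Λ (EtCoh.H X I.carrier q) :=
    (epiSeq (A := B) (B := cokerL φ h) (cokernel.π φ) (isLin_cokerπ φ h)).finite_left q hB hC
  haveI : Epi (Abelian.factorThruImage φ) := inferInstance
  let S : Seq (kerL φ h) A I :=
    ⟨kernel.ι φ, Abelian.factorThruImage φ, by
      refine equalizer.hom_ext ?_
      show (kernel.ι φ ≫ kernel.lift (cokernel.π φ) φ (cokernel.condition φ)) ≫ kernel.ι _ = 0 ≫ kernel.ι _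
      rw [Category.assoc, kernel.lift_ι, kernel.condition, zero_comp],
      isLin_kerι φ h, isLin_factorThruImage φ h,
      { exact := ShortComplex.exact_of_f_is_kernel _ (KernelFork.IsLimit.ofι' (kernel.ι φ) _
          (fun {W} k hk => ⟨kernel.lift φ k (by
            have := congrArg (· ≫ kernel.ι (cokernel.π φ)) hk
            simpa [Abelian.factorThruImage] using this), kernel.lift_ι _ _ _⟩)) }⟩
  exact S.finite_mid q hK hI

/-- Linearity of the direct image identification. -/
theorem HofPush_act (g : Y ⟶ X) [PreservesFiniteLimits (EtCoh.pull g)] [(EtCoh.push g).Additive]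
    {F F' : EtCoh.Ab Y} (a : F ⟶ F') (q : ℕ) (x : EtCoh.H X ((EtCoh.push g).obj F) q) :
    EtLim.HofPush g F' q (Sheaf.H.map ((EtCoh.push g).map a) q x) = Sheaf.H.map a q (EtLim.HofPush g F q x) := by
  show Sheaf.H.map ((EtCoh.pullPushAdj g).counit.app F') q
      (EtCore.Hpull g ((EtCoh.push g).obj F') q (x.comp (Ext.mk₀ ((EtCoh.push g).map a)) (add_zero q))) =
    Sheaf.H.map a q (Sheaf.H.map ((EtCoh.pullPushAdj g).counit.app F) q (EtCore.Hpull g ((EtCoh.push g).obj F) q x))
  rw [← LocAcyc24.Hpull_nat g ((EtCoh.push g).map a) q x]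
  show Sheaf.H.map _ q (Sheaf.H.map ((EtCoh.pull g).map ((EtCoh.push g).map a)) q _) = _
  refine ((Sheaf.H.map_comp_apply _ _ _).symm.trans ?_).trans (Sheaf.H.map_comp_apply _ _ _)
  exact congrArg (fun t => Sheaf.H.map t q _) ((EtCoh.pullPushAdj g).counit.naturality a)

/-- Direct image of a sheaf of modules. -/
def pushL (g : Y ⟶ X) (L : EtLam.Sheaf Λ Y) : EtLam.Sheaf Λ X :=
  haveI : (EtCoh.push g).Additive := (EtCoh.pullPushAdj g).right_adjoint_additive
  ⟨(EtCoh.push g).obj L.carrier, EtLam.mapAct (EtCoh.push g) L.act⟩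

theorem finite_H_pushL (g : Y ⟶ X) [IsIntegralHom g] (L : EtLam.Sheaf Λ Y) (q : ℕ)
    [IsNoetherianRing Λ] (h : Module.Finite Λ (EtCoh.H Y L.carrier q)) :
    Module.Finite Λ (EtCoh.H X (pushL g L).carrier q) := by
  haveI := h
  haveI : (EtCoh.push g).Additive := (EtCoh.pullPushAdj g).right_adjoint_additive
  haveI : PreservesFiniteLimits (EtCoh.pull g) := EtStalk.preservesFiniteLimits_pull g
  let e : EtCoh.H X (pushL g L).carrier q →ₗ[Λ] EtCoh.H Y L.carrier q :=
    { toFun := EtLim.HofPush g L.carrier q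
      map_add' := map_add _
      map_smul' := fun r x => HofPush_act g (actM L r) q x }
  exact Module.Finite.of_injective e (FieldH25.bijective_HofPush_integral g L.carrier q).1

/-- A finite sum of sheaves of modules. -/
def sumL {n : ℕ} (G : Fin n → EtLam.Sheaf Λ X) : EtLam.Sheaf Λ X where
  carrier := ⨁ fun i => (G i).carrier
  act :=
    { toFun := fun r => biproduct.map fun i => actM (G i) r
      map_one' := biproduct.hom_ext _ _ fun i => by simp [actM, End.one_def]
      map_mul' := fun r s => biproduct.hom_ext _ _ fun i => by simp [actM, End.mul_def]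
      map_zero' := biproduct.hom_ext _ _ fun i => by simp [actM]
      map_add' := fun r s => biproduct.hom_ext _ _ fun i => by
        rw [Preadditive.add_comp, biproduct.map_π, biproduct.map_π, biproduct.map_π]
        simp only [actM, map_add]
        exact Preadditive.comp_add _ _ _ _ _ _ }

theorem isLin_sumπ {n : ℕ} (G : Fin n → EtLam.Sheaf Λ X) (i : Fin n) :
    IsLin (sumL G) (G i) (biproduct.π (fun j => (G j).carrier) i) := fun r => biproduct.map_π (fun j => actM (G j) r) i

theorem isLin_lift {n : ℕ} {A : EtLam.Sheaf Λ X} (G : Fin n → EtLam.Sheaf Λ X)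
    (φ : ∀ i, A.carrier ⟶ (G i).carrier) (h : ∀ i, IsLin A (G i) (φ i)) :
    IsLin A (sumL G) (biproduct.lift φ) := fun r => by
  refine biproduct.hom_ext _ _ fun i => ?_
  show (actM A r ≫ biproduct.lift φ) ≫ biproduct.π (fun j => (G j).carrier) i =
    (biproduct.lift φ ≫ biproduct.map (fun j => actM (G j) r)) ≫ biproduct.π (fun j => (G j).carrier) i
  simp only [Category.assoc, biproduct.lift_π, biproduct.map_π, biproduct.lift_π_assoc]
  exact h i r

theorem finite_H_sumL [IsNoetherianRing Λ] {n : ℕ} (G : Fin n → EtLam.Sheaf Λ X) (q : ℕ)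
    (h : ∀ i, Module.Finite Λ (EtCoh.H X (G i).carrier q)) :
    Module.Finite Λ (EtCoh.H X (sumL G).carrier q) := by
  haveI := h
  let e : EtCoh.H X (sumL G).carrier q →ₗ[Λ] ((i : Fin n) → EtCoh.H X (G i).carrier q) :=
    LinearMap.pi fun i => hlin _ (isLin_sumπ G i) q
  refine Module.Finite.of_injective e ((injective_iff_map_eq_zero e).2 fun x hx => ?_)
  have h1 : x.comp (Ext.mk₀ (∑ i, biproduct.π (fun j => (G j).carrier) i ≫ biproduct.ι (fun j => (G j).carrier) i))
      (add_zero q) = x := by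
    rw [biproduct.total]
    exact Ext.comp_mk₀_id x
  rw [← h1, Ext.mk₀_sum, Ext.comp_sum]
  refine Finset.sum_eq_zero fun i _ => ?_
  rw [← Ext.mk₀_comp_mk₀]
  erw [← Ext.comp_assoc_of_third_deg_zero]
  rw [show x.comp (Ext.mk₀ (biproduct.π (fun j => (G j).carrier) i)) (add_zero q) = 0 from congrFun hx i,
    Ext.zero_comp]

end Groth.Agent.LamFin24
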