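import Groth.Agent.Lib.LamFin24.Chart
import Groth.Agent.Lib.CurveFin32.Main
import Groth.Agent.Lib.CurveOpen32.Finite

/-!
# Finiteness for constructible sheaves of modules on curves
-/

set_option autoImplicit false
set_option linter.style.haveILetI false
set_option backward.isDefEq.respectTransparency false
set_option backward.isDefEq.respectTransparency.types false

universe u

open CategoryTheory CategoryTheory.Limits AlgebraicGeometry Opposite

noncomputable section

namespace Groth.Agent.LamFin24

variable {Λ : Type} [CommRing Λ] {k : Type u} [Field k] [IsAlgClosed k] {X : Scheme.{u}}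
  (f : X ⟶ Spec (CommRingCat.of k)) (hdim : topologicalKrullDim X ≤ 1)

theorem dim_of_finite (hdim : topologicalKrullDim X ≤ 1) {W : Scheme.{u}} (b : W ⟶ X) [IsFinite b] :
    topologicalKrullDim W ≤ 1 :=
  (H12.topologicalKrullDim_le_of_eq_of_specializes b b.continuous
    fun _ _ h he => H12.eq_of_specializes_of_isIntegralHom b h he).trans hdim

include f hdim in
theorem base_proper [IsProper f] (W : Scheme.{u}) (b : W ⟶ X) (hb : IsFinite b) (n d : ℕ) (hn : n ≠ 0) (hd : d ∣ n)
    (p : ℕ) : Finite (EtCoh.H W (EtCoh.const W (ZMod d)) p) := by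
  haveI := hb
  haveI : NeZero d := ⟨fun h0 => hn (Nat.eq_zero_of_zero_dvd (h0 ▸ hd))⟩
  haveI : CompactSpace W := QuasiCompact.compactSpace_of_compactSpace (b ≫ f)
  haveI : QuasiSeparatedSpace W := quasiSeparatedSpace_of_quasiSeparated (b ≫ f)
  exact CurveFin32.finiteIn p W (b ≫ f) inferInstance (dim_of_finite hdim b) _
    (CurveFin32.isConstructible_const (ZMod d))

include f hdim in
theorem base_separated [IsSeparated f] [LocallyOfFiniteType f] [QuasiCompact f] (W : Scheme.{u}) (b : W ⟶ X)
    (hb : IsFinite b) (n d : ℕ) (hn : (n : k) ≠ 0) (hd : d ∣ n) (p : ℕ) :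
    Finite (EtCoh.H W (EtCoh.const W (ZMod d)) p) := by
  haveI := hb
  have hdk : (d : k) ≠ 0 := fun h0 => hn (by
    obtain ⟨c, rfl⟩ := hd
    rw [Nat.cast_mul, h0, zero_mul])
  haveI : NeZero d := ⟨fun h0 => hdk (by rw [h0, Nat.cast_zero])⟩
  haveI : CompactSpace W := QuasiCompact.compactSpace_of_compactSpace (b ≫ f)
  haveI : QuasiSeparatedSpace W := quasiSeparatedSpace_of_quasiSeparated (b ≫ f)
  exact CurveOpen32.finiteInN p W (b ≫ f) inferInstance inferInstance inferInstance (dim_of_finite hdim b) d hdk _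
    (CurveFin32.isConstructible_const (ZMod d)) (CurveOpen32.nsmul_id_const' W (ZMod d) fun m => by simp)

variable [IsNoetherianRing Λ]

include f hdim in
theorem finite_H_proper [IsProper f] (L : EtLam.Sheaf Λ X) (hL : EtLam.IsConstructible L)
    (hLt : EtCoh.IsTorsion L.carrier) (q : ℕ) : Module.Finite Λ (EtCoh.H X L.carrier q) := by
  haveI : IsLocallyNoetherian X := LocallyOfFiniteType.isLocallyNoetherian f
  have ht := stalkTors_of_isTorsion hLt
  exact finite_H f hdim (fun n hn => hn) L (genTriv_of_constructible hL one_ne_zero (fun a b => mul_ne_zero) ht)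
    (ptFin_of_constructible hL one_ne_zero (fun a b => mul_ne_zero) ht fun n hn => hn) (base_proper f hdim) q

include f hdim in
theorem finite_H_separated [IsSeparated f] [LocallyOfFiniteType f] [QuasiCompact f] (L : EtLam.Sheaf Λ X)
    (hL : EtLam.IsConstructible L) (hLp : EtPBC.IsTorsionInvertibleOn (Spec (CommRingCat.of k)) L.carrier) (q : ℕ) :
    Module.Finite Λ (EtCoh.H X L.carrier q) := by
  haveI : IsLocallyNoetherian X := LocallyOfFiniteType.isLocallyNoetherian f
  have ht := stalkTors_of_invertible hLp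
  have h1 : ((1 : ℕ) : k) ≠ 0 := by simp
  have hne : ∀ n : ℕ, (n : k) ≠ 0 → n ≠ 0 := fun n hn h0 => hn (by rw [h0, Nat.cast_zero])
  have hmul : ∀ a b : ℕ, (a : k) ≠ 0 → (b : k) ≠ 0 → ((a * b : ℕ) : k) ≠ 0 := fun a b ha hb => by
    rw [Nat.cast_mul]; exact mul_ne_zero ha hb
  exact finite_H f hdim (P := fun n : ℕ => (n : k) ≠ 0) hne L (genTriv_of_constructible hL h1 hmul ht)
    (ptFin_of_constructible hL h1 hmul ht hne) (base_separated f hdim) q

include f in
theorem finite_H_extZero [IsProper f] (hdim : topologicalKrullDim X ≤ 1) {U : Scheme.{u}} (j : U ⟶ X)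
    [IsOpenImmersion j] [AlgebraicGeometry.Etale j] [EtShriek.JCont j] (L : EtLam.Sheaf Λ U)
    (hL : EtLam.IsConstructible L) (hLt : EtCoh.IsTorsion L.carrier) (q : ℕ) :
    Module.Finite Λ (EtCoh.H X (FinFr.extZeroLam j L).carrier q) := by
  haveI : IsLocallyNoetherian X := LocallyOfFiniteType.isLocallyNoetherian f
  haveI : CompactSpace X := QuasiCompact.compactSpace_of_compactSpace f
  haveI : IsLocallyNoetherian U := LocallyOfFiniteType.isLocallyNoetherian j
  have ht := stalkTors_of_isTorsion hLt
  exact finite_H f hdim (fun n hn => hn) _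
    (genTriv_extZero j L one_ne_zero (genTriv_of_constructible hL one_ne_zero (fun a b => mul_ne_zero) ht))
    (ptFin_extZero j L (ptFin_of_constructible hL one_ne_zero (fun a b => mul_ne_zero) ht fun n hn => hn))
    (base_proper f hdim) q

end Groth.Agent.LamFin24
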