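import Groth.Agent.Lib.LamFin24.Const
import Groth.Agent.Lib.CurveFin32.Main
import Groth.Agent.Lib.EtPic3.ClosedSupp

/-!
# Inverse images of sheaves of modules, and finiteness at points
-/

set_option autoImplicit false
set_option linter.style.haveILetI false
set_option linter.unusedSectionVars false
set_option backward.isDefEq.respectTransparency false
set_option backward.isDefEq.respectTransparency.types false

universe u

open CategoryTheory CategoryTheory.Limits AlgebraicGeometry Opposite CategoryTheory.Abelian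

attribute [local instance] Abelian.hasFiniteBiproducts

noncomputable section

namespace Groth.Agent.LamFin24

variable {Λ : Type} [CommRing Λ] {X Y Z : Scheme.{u}}

/-- Inverse image of a sheaf of modules. -/
abbrev pullL (g : Y ⟶ X) (L : EtLam.Sheaf Λ X) : EtLam.Sheaf Λ Y := EtLam.pullback g L

theorem IsLin.map_pull {A B : EtLam.Sheaf Λ X} {φ : A.carrier ⟶ B.carrier} (h : IsLin A B φ) (g : Y ⟶ X) :
    IsLin (pullL g A) (pullL g B) ((EtCoh.pull g).map φ) := fun r => by
  show (EtCoh.pull g).map (actM A r) ≫ (EtCoh.pull g).map φ = (EtCoh.pull g).map φ ≫ (EtCoh.pull g).map (actM B r)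
  rw [← Functor.map_comp, ← Functor.map_comp, h r]

theorem isLin_pullCompHom (f : Z ⟶ Y) (g : Y ⟶ X) (L : EtLam.Sheaf Λ X) :
    IsLin (pullL (f ≫ g) L) (pullL f (pullL g L)) ((EtCore.pullComp f g).hom.app L.carrier) := fun r =>
  (EtCore.pullComp f g).hom.naturality (actM L r)

theorem isLin_pullCompInv (f : Z ⟶ Y) (g : Y ⟶ X) (L : EtLam.Sheaf Λ X) :
    IsLin (pullL f (pullL g L)) (pullL (f ≫ g) L) ((EtCore.pullComp f g).inv.app L.carrier) := fun r =>
  (EtCore.pullComp f g).inv.naturality (actM L r)

theorem isLin_pullConst (g : Y ⟶ X) (M : Type) [AddCommGroup M] [Module Λ M] :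
    IsLin (pullL g (constL Λ X M)) (constL Λ Y M) (EtCore.pullConst g M).hom := fun r =>
  (EtCore.pullConstIso g).hom.naturality (smulHom.{u} M r)

theorem isLin_pullConstInv (g : Y ⟶ X) (M : Type) [AddCommGroup M] [Module Λ M] :
    IsLin (constL Λ Y M) (pullL g (constL Λ X M)) (EtCore.pullConst g M).inv := fun r =>
  (EtCore.pullConstIso g).inv.naturality (smulHom.{u} M r)

theorem isLin_unit (g : Y ⟶ X) (L : EtLam.Sheaf Λ X) :
    IsLin L (pushL g (pullL g L)) ((EtCoh.pullPushAdj g).unit.app L.carrier) := fun r =>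
  (EtCoh.pullPushAdj g).unit.naturality (actM L r)

theorem isLin_counit (g : Y ⟶ X) (L : EtLam.Sheaf Λ Y) :
    IsLin (pullL g (pushL g L)) L ((EtCoh.pullPushAdj g).counit.app L.carrier) := fun r =>
  (EtCoh.pullPushAdj g).counit.naturality (actM L r)

theorem IsLin.map_push {A B : EtLam.Sheaf Λ Y} {φ : A.carrier ⟶ B.carrier} (h : IsLin A B φ) (g : Y ⟶ X) :
    IsLin (pushL g A) (pushL g B) ((EtCoh.push g).map φ) := fun r => by
  show (EtCoh.push g).map (actM A r) ≫ (EtCoh.push g).map φ = (EtCoh.push g).map φ ≫ (EtCoh.push g).map (actM B r)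
  rw [← Functor.map_comp, ← Functor.map_comp, h r]

theorem IsLin.of_mono {A B C : EtLam.Sheaf Λ X} {φ : A.carrier ⟶ B.carrier} {ψ : B.carrier ⟶ C.carrier} [Mono ψ]
    (hψ : IsLin B C ψ) (h : IsLin A C (φ ≫ ψ)) : IsLin A B φ := fun r => by
  rw [← cancel_mono ψ, Category.assoc, h r, Category.assoc, Category.assoc, hψ r]

section Points

variable [IsNoetherianRing Λ] {k : Type u} [Field k] [IsAlgClosed k]

/-- The module of sections at every rational point is finitely generated. -/
def PtFin (k : Type u) [Field k] (L : EtLam.Sheaf Λ X) : Prop :=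
  ∀ ξ : Spec (CommRingCat.of k) ⟶ X, Module.Finite Λ (EtCoh.H (Spec (CommRingCat.of k)) (pullL ξ L).carrier 0)

theorem PtFin.pull {L : EtLam.Sheaf Λ X} (h : PtFin k L) (g : Y ⟶ X) : PtFin k (pullL g L) := fun ξ =>
  finite_of_iso ((EtCore.pullComp ξ g).hom.app L.carrier) (isLin_pullCompHom ξ g L) 0 (h (ξ ≫ g))

theorem ptFin_constL (M : Type) [AddCommGroup M] [Module Λ M] [Module.Finite Λ M] {n : ℕ} (hn : n ≠ 0)
    (hM : ∀ m : M, n • m = 0) : PtFin k (constL Λ X M) := fun ξ => by
  have h := finite_H_constL (Λ := Λ) (Spec (CommRingCat.of k)) M 0 n hn hM fun d hd =>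
    haveI : NeZero d := ⟨fun h0 => hn (Nat.eq_zero_of_zero_dvd (h0 ▸ hd))⟩
    CurveFin32.finite_H_spec (ZMod d) 0
  exact finite_of_iso (A := constL Λ (Spec (CommRingCat.of k)) M) (B := pullL ξ (constL Λ X M))
    (EtCore.pullConst ξ M).inv (isLin_pullConstInv ξ M) 0 h

theorem PtFin.kerL {A B : EtLam.Sheaf Λ X} (hA : PtFin k A) (φ : A.carrier ⟶ B.carrier) (h : IsLin A B φ) :
    PtFin k (kerL φ h) := fun ξ => by
  haveI := hA ξ
  haveI : PreservesFiniteLimits (EtCoh.pull ξ) := EtStalk.preservesFiniteLimits_pull ξ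
  haveI : Mono ((EtCoh.pull ξ).map (kernel.ι φ)) := inferInstance
  exact Module.Finite.of_injective (hlin _ ((isLin_kerι φ h).map_pull ξ) 0)
    (hlin_injective_zero _ ((isLin_kerι φ h).map_pull ξ))

theorem PtFin.cokerL {A B : EtLam.Sheaf Λ X} (hB : PtFin k B) (φ : A.carrier ⟶ B.carrier) (h : IsLin A B φ) :
    PtFin k (cokerL φ h) := fun ξ => by
  haveI := hB ξ
  haveI : PreservesFiniteLimits (EtCoh.pull ξ) := EtStalk.preservesFiniteLimits_pull ξ
  haveI : Epi ((EtCoh.pull ξ).map (cokernel.π φ)) := inferInstance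
  let S := epiSeq _ ((isLin_cokerπ φ h).map_pull ξ)
  haveI := EtPic3.subsingleton_H_sepClosed k
    (Groth.Agent.LamFin24.kerL _ ((isLin_cokerπ φ h).map_pull ξ)).carrier Nat.one_pos
  refine Module.Finite.of_surjective (hlin _ ((isLin_cokerπ φ h).map_pull ξ) 0) fun y => ?_
  obtain ⟨x, hx⟩ := Ext.covariant_sequence_exact₃ _ S.exact y rfl (Subsingleton.elim _ _)
  exact ⟨x, hx⟩

variable (f : X ⟶ Spec (CommRingCat.of k)) [LocallyOfFiniteType f]

include f in
/-- Positive degree cohomology of a sheaf with finite closed support vanishes. -/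
theorem subsingleton_H_suppIn (F : EtCoh.Ab X) (T : Finset X) (hT : ∀ x ∈ T, IsClosed ({x} : Set X))
    (hF : EtPic3.SuppIn F T) {n : ℕ} (hn : 0 < n) : Subsingleton (EtCoh.H X F n) := by
  have hP : EtPic3.PointsKilled (⊥ : Submonoid ℕ) X := fun x hx G m hm z => by
    haveI : IsClosedImmersion (X.fromSpecResidueField x) := isClosed_singleton_iff_isClosedImmersion.1 hx
    letI := (Spec.preimage (X.fromSpecResidueField x ≫ f)).hom.toAlgebra
    haveI : Algebra.IsAlgebraic k (X.residueField x) := by
      have hlft : LocallyOfFiniteType (Spec.map (Spec.preimage (X.fromSpecResidueField x ≫ f))) := by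
        rw [Spec.map_preimage]
        infer_instance
      rw [HasRingHomProperty.Spec_iff (P := @LocallyOfFiniteType)] at hlft
      haveI : Algebra.FiniteType k (X.residueField x) := hlft
      haveI : Module.Finite k (X.residueField x) := finite_of_finite_type_of_isJacobsonRing k _
      exact Algebra.IsAlgebraic.of_finite k _
    haveI : IsSepClosed (X.residueField x) := EtPic3.isSepClosed_of_ringEquiv
      (RingEquiv.ofBijective (algebraMap k (X.residueField x))
        IsAlgClosed.algebraMap_bijective_of_isIntegral)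
    haveI := EtPic3.subsingleton_H_sepClosed (X.residueField x) G hm
    exact Subsingleton.elim z 0 ▸ EtPic3.killed_zero
  refine subsingleton_of_forall_eq 0 fun z => ?_
  obtain ⟨N, hN, hN0⟩ := EtPic3.killed_H_suppIn hP T hT F hF n hn z
  rw [Submonoid.mem_bot.1 hN, one_nsmul] at hN0
  exact hN0

include f in
/-- A closed point is rational. -/
theorem exists_point (x : X) (hx : IsClosed ({x} : Set X)) :
    ∃ ξ : Spec (CommRingCat.of k) ⟶ X, IsClosedImmersion ξ ∧ ξ default = x := by
  haveI : IsClosedImmersion (X.fromSpecResidueField x) := isClosed_singleton_iff_isClosedImmersion.1 hx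
  letI := (Spec.preimage (X.fromSpecResidueField x ≫ f)).hom.toAlgebra
  have hlft : LocallyOfFiniteType (Spec.map (Spec.preimage (X.fromSpecResidueField x ≫ f))) := by
    rw [Spec.map_preimage]
    infer_instance
  rw [HasRingHomProperty.Spec_iff (P := @LocallyOfFiniteType)] at hlft
  haveI : Algebra.FiniteType k (X.residueField x) := hlft
  haveI : Module.Finite k (X.residueField x) := finite_of_finite_type_of_isJacobsonRing k _
  let e := RingEquiv.ofBijective (algebraMap k (X.residueField x)) IsAlgClosed.algebraMap_bijective_of_isIntegral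
  haveI : IsIso (CommRingCat.ofHom e.symm.toRingHom) := e.symm.toCommRingCatIso.isIso_hom
  refine ⟨Spec.map (CommRingCat.ofHom e.symm.toRingHom) ≫ X.fromSpecResidueField x, inferInstance, ?_⟩
  rw [Scheme.Hom.comp_apply]
  exact Scheme.fromSpecResidueField_apply _ _

include f in
/-- Finiteness for a sheaf with finite closed support and finite values at points. -/
theorem finite_H_suppIn (L : EtLam.Sheaf Λ X) (T : Finset X) (hT : ∀ x ∈ T, IsClosed ({x} : Set X))
    (hF : EtPic3.SuppIn L.carrier T) (hL : PtFin k L) (q : ℕ) :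
    Module.Finite Λ (EtCoh.H X L.carrier q) := by
  rcases Nat.eq_zero_or_pos q with rfl | hq
  · let e := T.equivFin.symm
    choose ξ hξ hξx using fun i => exists_point f (e i : X) (hT _ (e i).2)
    haveI := hξ
    haveI : ∀ i, IsFinite (ξ i) := fun i => inferInstance
    let G := sumL fun i => pushL (ξ i) (pullL (ξ i) L)
    let v : L.carrier ⟶ G.carrier := biproduct.lift fun i => (EtCoh.pullPushAdj (ξ i)).unit.app L.carrier
    have hv : IsLin L G v := isLin_lift _ _ fun i => isLin_unit (ξ i) L
    haveI : Mono v := (EtStalk.mono_iff_stalk v).2 fun Ω _ _ ζ => by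
      by_cases h : ζ (default : Spec (CommRingCat.of Ω)) ∈ T
      · obtain ⟨i, hi⟩ := e.surjective ⟨_, h⟩
        obtain ⟨η, rfl⟩ := EtStalk.exists_lift_point (ξ i) ζ ⟨default, by rw [hξx i, hi]⟩
        have hb : Function.Bijective ((EtCoh.stalk (η ≫ ξ i)).map ((EtCoh.pullPushAdj (ξ i)).unit.app L.carrier)) := by
          rw [← ConcreteCategory.isIso_iff_bijective,
            show (EtCoh.stalk (η ≫ ξ i)).map ((EtCoh.pullPushAdj (ξ i)).unit.app L.carrier) =
              EtStalk.stalkPull (ξ i) η L.carrier ≫ inv (EtStalk.pushStalk (ξ i) η ((EtCoh.pull (ξ i)).obj L.carrier)) by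
              rw [IsIso.eq_comp_inv, EtStalk.unit_pushStalk]]
          infer_instance
        intro a b hab
        refine hb.1 ?_
        have hπ : v ≫ biproduct.π (fun i => (pushL (ξ i) (pullL (ξ i) L)).carrier) i =
            (EtCoh.pullPushAdj (ξ i)).unit.app L.carrier := biproduct.lift_π _ i
        rw [← hπ, Functor.map_comp]
        exact congrArg (fun t => (EtCoh.stalk (η ≫ ξ i)).map
          (biproduct.π (fun i => (pushL (ξ i) (pullL (ξ i) L)).carrier) i) t) hab
      · intro a b _
        exact @Subsingleton.elim _ (hF Ω ζ h) a b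
    have hG : Module.Finite Λ (EtCoh.H X G.carrier 0) :=
      finite_H_sumL _ 0 fun i => finite_H_pushL (ξ i) _ 0 (hL (ξ i))
    haveI := hG
    exact Module.Finite.of_injective (hlin v hv 0) (hlin_injective_zero v hv)
  · haveI := subsingleton_H_suppIn f L.carrier T hT hF hq
    exact Module.Finite.of_finite

end Points

end Groth.Agent.LamFin24
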